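import Groth.Agent.H16Derived.DerComp.Flat.Quot
import Groth.Agent.H16Derived.DerComp.Null.Main
import Groth.Agent.H16Derived.DerComp.Scalars

/-!
# Free modules under restriction of scalars
-/

set_option autoImplicit false
set_option linter.style.haveILetI false
set_option backward.isDefEq.respectTransparency false

universe u

open CategoryTheory CategoryTheory.Limits Opposite

namespace Groth.Agent.H16Derived.DerCompLib.Flat

open H15Site H15Site.ModTensor H15Site.OverPre Null

attribute [local instance] HasDerivedCategory.standard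
attribute [local instance 10000] SiteInst.hasSheafifySite SiteInst.hasWeakSheafifySite
attribute [local instance] preservesFiniteLimits_restr' preservesFiniteColimits_restr' additive_restr

variable {C : Type u} [SmallCategory C] {J : GrothendieckTopology C} (O : Sheaf J CommRingCat.{u}) (U : C)

/-- The presheaf free on `U`. -/
noncomputable abbrev pFree : PMod O := (ModOver.jp O U).obj ((forg (O.over U)).obj (ModSite.unit (O.over U)))

/-- Its generator. -/
noncomputable def gen0 : (pFree O U).obj (op U) :=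
  (inc (R := O.obj) (U := U) ((forg (O.over U)).obj (ModSite.unit (O.over U))) (X := op U) (𝟙 U)).hom
    (1 : (O.over U).obj.obj (op (Over.mk (𝟙 U))))

/-- The sheaf free on `U`. -/
noncomputable abbrev F0 : ModSite.Mod O := (aSh O).obj (pFree O U)

/-- `F0` is `j_! O_U`. -/
noncomputable def F0Iso : F0 O U ≅ ModSite.freeOn O U := ModOver.jApp O U (ModSite.unit (O.over U))

theorem bijective_eval_pFree (M : PMod O) :
    Function.Bijective fun x : pFree O U ⟶ M => (x.app (op U)).hom (gen0 O U) := by
  let u := (forg (O.over U)).obj (ModSite.unit (O.over U))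
  let one' : ∀ {X : Cᵒᵖ} (φ : X.unop ⟶ U), fib (R := O.obj) (U := U) u φ := fun {X} φ =>
    (1 : (O.over U).obj.obj (op (Over.mk φ)))
  have hgen : ∀ {X : Cᵒᵖ} (φ : X.unop ⟶ U),
      rs (pFree O U) φ.op (gen0 O U) = (inc (R := O.obj) (U := U) u φ).hom (one' φ) := by
    intro X φ
    let e : Over.mk φ ⟶ Over.mk (𝟙 U) := Over.homMk φ (Category.comp_id φ)
    refine (jMap_inc (R := O.obj) (U := U) u φ.op e rfl _).trans ?_
    exact congrArg (inc (R := O.obj) (U := U) u φ).hom (map_one ((O.over U).obj.map e.op).hom)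
  constructor
  · intro x y h
    refine PresheafOfModules.hom_ext fun X => jMap_ext (R := O.obj) (U := U) u fun φ r => ?_
    have hr : (inc (R := O.obj) (U := U) u φ).hom r =
        (show O.obj.obj X from r) • (inc (R := O.obj) (U := U) u φ).hom (one' φ) := by
      refine Eq.trans ?_ ((inc (R := O.obj) (U := U) u φ).hom.map_smul _ _)
      exact congrArg _ (mul_one (show O.obj.obj X from r)).symm
    rw [hr]
    refine ((x.app X).hom.map_smul _ _).trans (Eq.trans (congrArg ((show O.obj.obj X from r) • ·) ?_)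
      ((y.app X).hom.map_smul _ _).symm)
    rw [← hgen φ]
    exact (rs_app x φ.op _).trans ((congrArg (rs M φ.op) h).trans (rs_app y φ.op _).symm)
  · intro m
    let g : ∀ (X : Cᵒᵖ) (φ : X.unop ⟶ U), fib (R := O.obj) (U := U) u φ ⟶ M.obj X := fun X φ =>
      ModuleCat.ofHom
        { toFun := fun r => (show (O.obj ⋙ forget₂ CommRingCat.{u} RingCat.{u}).obj X from r) • rs M φ.op m
          map_add' := fun r r' => add_smul (R := (O.obj ⋙ forget₂ CommRingCat.{u} RingCat.{u}).obj X) _ _ _
          map_smul' := fun a r => mul_smul (α := (O.obj ⋙ forget₂ CommRingCat.{u} RingCat.{u}).obj X) _ _ _ }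
    refine ⟨{ app := fun X => jDesc (R := O.obj) (U := U) u (g X), naturality := fun {X Y} k => ?_ }, ?_⟩
    · refine jMap_ext (R := O.obj) (U := U) u fun φ r => ?_
      let e : Over.mk (k.unop ≫ φ) ⟶ Over.mk φ := Over.homMk k.unop
      show (jDesc (R := O.obj) (U := U) u (g Y)).hom ((jMap (R := O.obj) (U := U) u k).hom ((inc u φ).hom r)) =
        rs M k ((jDesc (R := O.obj) (U := U) u (g X)).hom ((inc u φ).hom r))
      rw [jDesc_apply_inc]
      refine (congrArg _ (jMap_inc (R := O.obj) (U := U) u k e rfl r)).trans ?_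
      refine (jDesc_apply_inc (R := O.obj) (U := U) u _ _ _).trans ?_
      refine Eq.trans ?_ (rs_smul M k _ _).symm
      rw [rs_rs]
      rfl
    · show (jDesc (R := O.obj) (U := U) u (g (op U))).hom (gen0 O U) = m
      refine (jDesc_apply_inc (R := O.obj) (U := U) u (g (op U)) (𝟙 U) _).trans ?_
      exact (one_smul ((O.obj ⋙ forget₂ CommRingCat.{u} RingCat.{u}).obj (op U)) _).trans (rs_id M m)

/-- Maps out of `F0` are sections over `U`. -/
theorem bijective_eval_F0 (F : ModSite.Mod O) :
    Function.Bijective fun x : F0 O U ⟶ F =>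
      (((forg O).map x).app (op U)).hom ((((adj O).unit.app (pFree O U)).app (op U)).hom (gen0 O U)) := by
  have h : (fun x : F0 O U ⟶ F =>
      (((forg O).map x).app (op U)).hom ((((adj O).unit.app (pFree O U)).app (op U)).hom (gen0 O U))) =
      (fun y => (y.app (op U)).hom (gen0 O U)) ∘ (adj O).homEquiv (pFree O U) F := funext fun x => by
    rw [Function.comp_apply, Adjunction.homEquiv_unit]
    rfl
  rw [h]
  exact (bijective_eval_pFree O U _).comp ((adj O).homEquiv _ F).bijective

variable {O}

section Scalars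

variable {O' : Sheaf J CommRingCat.{u}} (φ : O ⟶ O')

/-- Restriction of scalars. -/
noncomputable abbrev Rs : ModSite.Mod O' ⥤ ModSite.Mod O :=
  SheafOfModules.restrictScalars.{u} ((sheafCompose J (forget₂ CommRingCat.{u} RingCat.{u})).map φ)

/-- `O ⟶ O'` as a map of modules. -/
noncomputable def phiMod : ModSite.unit O ⟶ (Rs φ).obj (ModSite.unit O') :=
  ⟨{ app := fun X => ModuleCat.ofHom (Y := ((Rs φ).obj (ModSite.unit O')).val.obj X)
      { toFun := fun a => (φ.hom.app X).hom a
        map_add' := fun a b => map_add (φ.hom.app X).hom a b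
        map_smul' := fun r a => map_mul (φ.hom.app X).hom r a }
     naturality := fun {X Y} g => ModuleCat.hom_ext (LinearMap.ext fun a =>
      NatTrans.naturality_apply φ.hom g a) }⟩

/-- `O'` on `C/U`. -/
noncomputable abbrev NU : ModSite.Mod (O.over U) := (ModSite.restr O U).obj ((Rs φ).obj (ModSite.unit O'))

/-- `O_U ⟶ O'_U`. -/
noncomputable abbrev phiU : ModSite.unit (O.over U) ⟶ NU U φ := (ModSite.restr O U).map (phiMod φ)

/-- The comparison on a summand. -/
noncomputable def zetaInc (X : Cᵒᵖ) (ψ : X.unop ⟶ U) :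
    fib (R := O.obj) (U := U) ((forg (O.over U)).obj (NU U φ)) ψ ⟶ ((forg O).obj ((Rs φ).obj (F0 O' U))).obj X :=
  ModuleCat.ofHom (Y := ((forg O).obj ((Rs φ).obj (F0 O' U))).obj X)
    { toFun := fun r => (((adj O').unit.app (pFree O' U)).app X).hom
        ((inc (R := O'.obj) (U := U) ((forg (O'.over U)).obj (ModSite.unit (O'.over U))) ψ).hom r)
      map_add' := fun r r' => by
        refine Eq.trans (congrArg (((adj O').unit.app (pFree O' U)).app X).hom ?_) (map_add _ _ _)
        exact map_add _ _ _
      map_smul' := fun a r => by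
        refine Eq.trans (congrArg (((adj O').unit.app (pFree O' U)).app X).hom ?_)
          ((((adj O').unit.app (pFree O' U)).app X).hom.map_smul ((φ.hom.app X).hom a) _)
        exact (inc (R := O'.obj) (U := U) ((forg (O'.over U)).obj (ModSite.unit (O'.over U))) ψ).hom.map_smul
          ((φ.hom.app X).hom a) r }

/-- The comparison over an object. -/
noncomputable def zetaX (X : Cᵒᵖ) :
    jObjX (R := O.obj) (U := U) ((forg (O.over U)).obj (NU U φ)) X ⟶ ((forg O).obj ((Rs φ).obj (F0 O' U))).obj X :=
  jDesc (R := O.obj) (U := U) ((forg (O.over U)).obj (NU U φ)) (zetaInc U φ X)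

theorem zetaX_inc {X : Cᵒᵖ} (ψ : X.unop ⟶ U) (r : fib (R := O.obj) (U := U) ((forg (O.over U)).obj (NU U φ)) ψ) :
    (zetaX U φ X).hom ((inc (R := O.obj) (U := U) ((forg (O.over U)).obj (NU U φ)) ψ).hom r) =
      (((adj O').unit.app (pFree O' U)).app X).hom
        ((inc (R := O'.obj) (U := U) ((forg (O'.over U)).obj (ModSite.unit (O'.over U))) ψ).hom r) :=
  jDesc_apply_inc (R := O.obj) (U := U) _ _ ψ r

theorem jMap_unit_inc {X Y : Cᵒᵖ} (k : X ⟶ Y) (ψ : X.unop ⟶ U)
    (r : fib (R := O'.obj) (U := U) ((forg (O'.over U)).obj (ModSite.unit (O'.over U))) ψ) :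
    rs (pFree O' U) k ((inc (R := O'.obj) (U := U) ((forg (O'.over U)).obj (ModSite.unit (O'.over U))) ψ).hom r) =
      (inc (R := O'.obj) (U := U) ((forg (O'.over U)).obj (ModSite.unit (O'.over U))) (k.unop ≫ ψ)).hom
        (((forg (O'.over U)).obj (ModSite.unit (O'.over U))).map
          (Over.homMk k.unop : Over.mk (k.unop ≫ ψ) ⟶ Over.mk ψ).op r) :=
  jMap_inc (R := O'.obj) (U := U) _ k (Over.homMk k.unop : Over.mk (k.unop ≫ ψ) ⟶ Over.mk ψ) rfl r

theorem jMap_NU_inc {X Y : Cᵒᵖ} (k : X ⟶ Y) (ψ : X.unop ⟶ U)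
    (r : fib (R := O.obj) (U := U) ((forg (O.over U)).obj (NU U φ)) ψ) :
    rs ((ModOver.jp O U).obj ((forg (O.over U)).obj (NU U φ))) k
      ((inc (R := O.obj) (U := U) ((forg (O.over U)).obj (NU U φ)) ψ).hom r) =
      (inc (R := O.obj) (U := U) ((forg (O.over U)).obj (NU U φ)) (k.unop ≫ ψ)).hom
        (((forg (O.over U)).obj (NU U φ)).map
          (Over.homMk k.unop : Over.mk (k.unop ≫ ψ) ⟶ Over.mk ψ).op r) :=
  jMap_inc (R := O.obj) (U := U) _ k (Over.homMk k.unop : Over.mk (k.unop ≫ ψ) ⟶ Over.mk ψ) rfl r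

/-- The comparison of presheaves. -/
noncomputable def zeta :
    (ModOver.jp O U).obj ((forg (O.over U)).obj (NU U φ)) ⟶ (forg O).obj ((Rs φ).obj (F0 O' U)) where
  app X := zetaX U φ X
  naturality {X Y} k := jMap_ext (R := O.obj) (U := U) _ fun ψ r => by
    show (zetaX U φ Y).hom (rs ((ModOver.jp O U).obj ((forg (O.over U)).obj (NU U φ))) k ((inc _ ψ).hom r)) =
      rs ((forg O).obj ((Rs φ).obj (F0 O' U))) k ((zetaX U φ X).hom ((inc _ ψ).hom r))
    refine (congrArg (zetaX U φ Y).hom (jMap_NU_inc U φ k ψ r)).trans ?_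
    refine (zetaX_inc U φ _ _).trans ?_
    refine Eq.trans ?_ (congrArg (rs ((forg O).obj ((Rs φ).obj (F0 O' U))) k) (zetaX_inc U φ ψ r)).symm
    refine Eq.trans ?_ (rs_app ((adj O').unit.app (pFree O' U)) k _)
    exact congrArg (((adj O').unit.app (pFree O' U)).app Y).hom (jMap_unit_inc U k ψ r).symm

/-- The underlying sums agree. -/
noncomputable def sumIso :
    (PresheafOfModules.toPresheaf _).obj ((ModOver.jp O U).obj ((forg (O.over U)).obj (NU U φ))) ≅
      (PresheafOfModules.toPresheaf _).obj (pFree O' U) := by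
  classical
  exact NatIso.ofComponents (fun X => Iso.refl _) fun {X Y} k => AddCommGrpCat.hom_ext (AddMonoidHom.ext fun x => by
    show (jMap (R := O.obj) (U := U) ((forg (O.over U)).obj (NU U φ)) k).hom x =
      (jMap (R := O'.obj) (U := U) ((forg (O'.over U)).obj (ModSite.unit (O'.over U))) k).hom x
    induction x using DirectSum.induction_on with
    | zero => exact (map_zero _).trans (map_zero _).symm
    | add a b ha hb => exact (map_add _ a b).trans ((congrArg₂ (· + ·) ha hb).trans (map_add _ a b).symm)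
    | of ψ r =>
      exact (jMap_NU_inc U φ k ψ r).trans (jMap_unit_inc U k ψ r).symm)

theorem toPresheaf_zeta :
    (PresheafOfModules.toPresheaf _).map (zeta U φ) =
      (sumIso U φ).hom ≫ (PresheafOfModules.toPresheaf _).map ((adj O').unit.app (pFree O' U)) := by
  classical
  refine NatTrans.ext (funext fun X => AddCommGrpCat.hom_ext (AddMonoidHom.ext fun x => ?_))
  show ((zeta U φ).app X).hom x = (((adj O').unit.app (pFree O' U)).app X).hom x
  induction x using DirectSum.induction_on with
  | zero => exact (map_zero _).trans (map_zero _).symm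
  | add a b ha hb => exact (map_add _ a b).trans ((congrArg₂ (· + ·) ha hb).trans (map_add _ a b).symm)
  | of ψ r => exact zetaX_inc U φ ψ r

/-- The sheafified comparison. -/
noncomputable def tau : (aSh O).obj ((ModOver.jp O U).obj ((forg (O.over U)).obj (NU U φ))) ⟶ (Rs φ).obj (F0 O' U) :=
  ((adj O).homEquiv _ _).symm (zeta U φ)

theorem isIso_tau : IsIso (tau U φ) := by
  obtain ⟨hi, hs⟩ := (isIso_aSh_map_iff ((adj O').unit.app (pFree O' U))).1 inferInstance
  have h : IsIso ((aSh O).map (zeta U φ)) := by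
    rw [isIso_aSh_map_iff, toPresheaf_zeta]
    haveI := hi
    haveI := hs
    haveI : IsIso (sumIso U φ).hom := inferInstance
    exact ⟨inferInstance, inferInstance⟩
  haveI := h
  haveI := ModOver.counit_isIso O
  rw [tau, Adjunction.homEquiv_counit]
  infer_instance

/-- The universal map. -/
noncomputable def c1 : F0 O U ⟶ (Rs φ).obj (F0 O' U) :=
  (aSh O).map ((ModOver.jp O U).map ((forg (O.over U)).map (phiU U φ))) ≫ tau U φ

theorem bijective_c1 (Y : ModSite.Mod O') :
    Function.Bijective fun a : F0 O' U ⟶ Y => c1 U φ ≫ (Rs φ).map a := by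
  have key : (fun x : F0 O U ⟶ (Rs φ).obj Y =>
      (((forg O).map x).app (op U)).hom ((((adj O).unit.app (pFree O U)).app (op U)).hom (gen0 O U))) ∘
      (fun a : F0 O' U ⟶ Y => c1 U φ ≫ (Rs φ).map a) =
      fun a : F0 O' U ⟶ Y =>
        (((forg O').map a).app (op U)).hom ((((adj O').unit.app (pFree O' U)).app (op U)).hom (gen0 O' U)) := by
    funext a
    have h1 : (adj O).unit.app (pFree O U) ≫ (forg O).map (c1 U φ) =
        (ModOver.jp O U).map ((forg (O.over U)).map (phiU U φ)) ≫ zeta U φ := by
      refine ((adj O).homEquiv_unit (X := pFree O U) (f := c1 U φ)).symm.trans ?_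
      rw [c1, Adjunction.homEquiv_naturality_left, tau, Equiv.apply_symm_apply]
    show (((forg O).map (c1 U φ ≫ (Rs φ).map a)).app (op U)).hom _ = _
    rw [Functor.map_comp]
    show (((forg O).map ((Rs φ).map a)).app (op U)).hom
        ((((adj O).unit.app (pFree O U) ≫ (forg O).map (c1 U φ)).app (op U)).hom (gen0 O U)) = _
    rw [h1]
    refine congrArg (((forg O').map a).app (op U)).hom ?_
    show ((zeta U φ).app (op U)).hom (((jMapHom (R := O.obj) (U := U) _).app (op U)).hom (gen0 O U)) = _
    rw [gen0, jMapHom_inc]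
    refine (zetaX_inc U φ _ _).trans ?_
    exact congrArg (((adj O').unit.app (pFree O' U)).app (op U)).hom (congrArg _ (map_one (φ.hom.app (op U)).hom))
  exact ((bijective_eval_F0 O U _).of_comp_iff' _).1 (key ▸ bijective_eval_F0 O' U Y)

end Scalars

end Groth.Agent.H16Derived.DerCompLib.Flat
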