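import Groth.Agent.H16Derived.DerComp.Null.Dual

/-!
# Maps of Koszul complexes and precomposition into complete objects
-/

set_option autoImplicit false
set_option linter.style.haveILetI false
set_option backward.isDefEq.respectTransparency false

universe w v u r

open CategoryTheory CategoryTheory.Limits CategoryTheory.Pretriangulated

namespace Groth.Agent.H16Derived.DerCompLib.Flat

open Null

variable {R : Type r} {A : Type u} [Category.{v} A] [Abelian A]

/-- An equivariant map. -/
structure KHom (a b : KAct R A) where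
  f : a.X ⟶ b.X
  comm : ∀ g, a.act g ≫ f = f ≫ b.act g

theorem KHom.ext' {a b : KAct R A} {φ ψ : KHom a b} (h : φ.f = ψ.f) : φ = ψ := by
  cases φ; cases ψ; cases h; rfl

/-- Composition. -/
noncomputable def KHom.comp {a b c : KAct R A} (φ : KHom a b) (ψ : KHom b c) : KHom a c where
  f := φ.f ≫ ψ.f
  comm g := by rw [reassoc_of% φ.comm g, ψ.comm g, Category.assoc]

/-- One step. -/
noncomputable def KHom.cone {a b : KAct R A} (φ : KHom a b) (g : R) : KHom (a.cone g) (b.cone g) where
  f := CochainComplex.mappingCone.map _ _ φ.f φ.f (φ.comm g)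
  comm h := by
    show CochainComplex.mappingCone.map _ _ _ _ (a.comm g h) ≫ CochainComplex.mappingCone.map _ _ _ _ (φ.comm g) =
      CochainComplex.mappingCone.map _ _ _ _ (φ.comm g) ≫ CochainComplex.mappingCone.map _ _ _ _ (b.comm g h)
    rw [← CochainComplex.mappingCone.map_comp, ← CochainComplex.mappingCone.map_comp]
    simp only [φ.comm h]

/-- The map of Koszul complexes. -/
noncomputable def KHom.kos {a b : KAct R A} : ∀ (l : List R), KHom a b → KHom (Null.kos l a) (Null.kos l b)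
  | [], φ => φ
  | g :: l, φ => (KHom.kos l φ).cone g

section Nat

variable (G : A ⥤ A) [G.Additive] (ι : 𝟭 A ⟶ G)

/-- A natural transformation on complexes. -/
noncomputable def natCx (K : CochainComplex A ℤ) : K ⟶ (G.mapHomologicalComplex (ComplexShape.up ℤ)).obj K where
  f i := ι.app (K.X i)
  comm' i j _ := (ι.naturality (K.d i j)).symm

theorem natCx_naturality {K L : CochainComplex A ℤ} (φ : K ⟶ L) :
    φ ≫ natCx G ι L = natCx G ι K ≫ (G.mapHomologicalComplex (ComplexShape.up ℤ)).map φ :=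
  HomologicalComplex.hom_ext _ _ fun i => ι.naturality (φ.f i)

/-- A natural transformation as an equivariant map. -/
noncomputable def natHom (a : KAct R A) : KHom a (a.map G) where
  f := natCx G ι a.X
  comm g := natCx_naturality G ι (a.act g)

theorem natCx_mappingCone {K L : CochainComplex A ℤ} (φ : K ⟶ L) :
    natCx G ι (CochainComplex.mappingCone φ) ≫ (CochainComplex.mappingCone.mapHomologicalComplexIso φ G).hom =
      CochainComplex.mappingCone.map φ ((G.mapHomologicalComplex (ComplexShape.up ℤ)).map φ) (natCx G ι K)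
        (natCx G ι L) (natCx_naturality G ι φ) := by
  refine HomologicalComplex.hom_ext _ _ fun n => ?_
  rw [CochainComplex.mappingCone.ext_to_iff _ _ (n + 1) rfl]
  constructor <;>
    simp [natCx, CochainComplex.mappingCone.mapHomologicalComplexIso,
      CochainComplex.mappingCone.mapHomologicalComplexXIso_eq _ G n (n + 1) rfl, map_f_fst, map_f_snd]
  · exact (congrArg (_ ≫ ·) (Category.comp_id _)).trans
      (ι.naturality ((CochainComplex.mappingCone.fst φ).1.v n (n + 1) rfl)).symm
  · exact (congrArg (_ ≫ ·) (Category.comp_id _)).trans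
      (ι.naturality ((CochainComplex.mappingCone.snd φ).v n n (add_zero n))).symm

/-- Natural transformations commute with Koszul complexes. -/
theorem exists_natHom_kos (a : KAct R A) : ∀ l : List R,
    ∃ e : ((Null.kos l a).map G).X ≅ (Null.kos l (a.map G)).X,
      (∀ g, ((Null.kos l a).map G).act g ≫ e.hom = e.hom ≫ (Null.kos l (a.map G)).act g) ∧
      natCx G ι (Null.kos l a).X ≫ e.hom = ((natHom G ι a).kos l).f
  | [] => ⟨Iso.refl _, fun g => (Category.comp_id _).trans (Category.id_comp _).symm, Category.comp_id _⟩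
  | f :: l => by
    obtain ⟨e, he, he'⟩ := exists_natHom_kos a l
    let b := Null.kos l a
    let c := Null.kos l (a.map G)
    let E : ((b.map G).cone f).X ≅ (c.cone f).X :=
      { hom := CochainComplex.mappingCone.map _ _ e.hom e.hom (he f)
        inv := CochainComplex.mappingCone.map _ _ e.inv e.inv (by
          rw [Iso.eq_inv_comp, ← Category.assoc, ← he f, Category.assoc, e.hom_inv_id, Category.comp_id])
        hom_inv_id := by
          rw [← CochainComplex.mappingCone.map_comp]; simp only [e.hom_inv_id]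
          exact CochainComplex.mappingCone.map_id _
        inv_hom_id := by
          rw [← CochainComplex.mappingCone.map_comp]; simp only [e.inv_hom_id]
          exact CochainComplex.mappingCone.map_id _ }
    refine ⟨CochainComplex.mappingCone.mapHomologicalComplexIso (b.act f) G ≪≫ E, fun g => ?_, ?_⟩
    · have h1 : (G.mapHomologicalComplex (ComplexShape.up ℤ)).map ((b.cone f).act g) ≫
          (CochainComplex.mappingCone.mapHomologicalComplexIso (b.act f) G).hom =
          (CochainComplex.mappingCone.mapHomologicalComplexIso (b.act f) G).hom ≫ ((b.map G).cone f).act g := by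
        refine HomologicalComplex.hom_ext _ _ fun n => ?_
        rw [CochainComplex.mappingCone.ext_to_iff _ _ (n + 1) rfl]
        constructor <;>
          simp [KAct.map, KAct.cone, CochainComplex.mappingCone.mapHomologicalComplexIso,
            CochainComplex.mappingCone.mapHomologicalComplexXIso_eq _ G n (n + 1) rfl, map_f_fst, map_f_snd,
            map_f_fst_assoc, map_f_snd_assoc, ← Functor.map_comp]
        · exact (congrArg (_ ≫ ·) (Category.comp_id _)).trans
            ((G.map_comp _ _).symm.trans (congrArg G.map (map_f_fst _ _ _ n (n + 1) rfl)))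
        · exact (congrArg (_ ≫ ·) (Category.comp_id _)).trans
            ((G.map_comp _ _).symm.trans (congrArg G.map (map_f_snd _ _ _ n)))
      have h2 : ((b.map G).cone f).act g ≫ E.hom = E.hom ≫ (c.cone f).act g := by
        show CochainComplex.mappingCone.map _ _ _ _ ((b.map G).comm f g) ≫
            CochainComplex.mappingCone.map _ _ _ _ (he f) =
          CochainComplex.mappingCone.map _ _ _ _ (he f) ≫ CochainComplex.mappingCone.map _ _ _ _ (c.comm f g)
        rw [← CochainComplex.mappingCone.map_comp, ← CochainComplex.mappingCone.map_comp]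
        simp only [b, c, he g]
      exact ((Category.assoc _ _ _).symm.trans (congrArg (· ≫ E.hom) h1)).trans
        ((Category.assoc _ _ _).trans ((congrArg (_ ≫ ·) h2).trans (Category.assoc _ _ _).symm))
    · refine ((Category.assoc _ _ _).symm.trans (congrArg (· ≫ E.hom) (natCx_mappingCone G ι (b.act f)))).trans ?_
      show CochainComplex.mappingCone.map _ _ (natCx G ι b.X) (natCx G ι b.X) (natCx_naturality G ι (b.act f)) ≫
          CochainComplex.mappingCone.map _ _ e.hom e.hom (he f) =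
        CochainComplex.mappingCone.map _ _ ((natHom G ι a).kos l).f ((natHom G ι a).kos l).f
          (((natHom G ι a).kos l).comm f)
      rw [← CochainComplex.mappingCone.map_comp]
      simp only [b, he']

end Nat

variable [CommRing R] [Linear R A] [HasDerivedCategory.{w} A]

/-- Precomposition is bijective into all shifts of `B`. -/
def Pre {X Y : DerivedCategory A} (φ : X ⟶ Y) (B : DerivedCategory A) : Prop :=
  ∀ n : ℤ, Function.Bijective fun x : Y ⟶ B⟦n⟧ => φ ≫ x

theorem pre_of_isIso {X Y : DerivedCategory A} (φ : X ⟶ Y) [IsIso φ] (B : DerivedCategory A) : Pre φ B :=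
  fun n => ⟨fun x y h => (cancel_epi φ).1 h, fun y => ⟨inv φ ≫ y, IsIso.hom_inv_id_assoc φ y⟩⟩

theorem pre_comp {X Y Z : DerivedCategory A} (φ : X ⟶ Y) (ψ : Y ⟶ Z) {B : DerivedCategory A}
    (h : Pre φ B) (h' : Pre ψ B) : Pre (φ ≫ ψ) B := fun n => by
  have := (h n).comp (h' n)
  simpa only [Function.comp_def, Category.assoc] using this

/-- Descending along a morphism of multiplication triangles. -/
theorem pre_of_triangles {g : R} {X Y CX CY : DerivedCategory A} {iX : X ⟶ CX} {dX : CX ⟶ X⟦(1 : ℤ)⟧}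
    (hX : Triangle.mk (g • 𝟙 X) iX dX ∈ distTriang (DerivedCategory A))
    {iY : Y ⟶ CY} {dY : CY ⟶ Y⟦(1 : ℤ)⟧}
    (hY : Triangle.mk (g • 𝟙 Y) iY dY ∈ distTriang (DerivedCategory A))
    (a : X ⟶ Y) (c : CX ⟶ CY) (hi : iX ≫ c = a ≫ iY) (hd : dX ≫ a⟦(1 : ℤ)⟧' = c ≫ dY)
    (B : DerivedCategory A)
    (hB : ∀ (Z : DerivedCategory A) (n : ℤ), Comp (Preadditive.leftComp (B⟦n⟧) (g • 𝟙 Z)))
    (hc : Pre c B) : Pre a B := by
  have hg : ∀ {P : DerivedCategory A} (Z : DerivedCategory A) (z : Z ⟶ P), (g • 𝟙 Z) ≫ z = g • z :=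
    fun {P} Z z => by rw [Linear.smul_comp, Category.id_comp]
  have hc1 : ∀ n : ℤ, Function.Bijective fun x : CY ⟶ (B⟦n⟧)⟦(1 : ℤ)⟧ => c ≫ x := fun n => by
    let e : B⟦n + 1⟧ ≅ (B⟦n⟧)⟦(1 : ℤ)⟧ := (shiftFunctorAdd' (DerivedCategory A) n 1 (n + 1) rfl).app B
    refine ⟨fun x y h => ?_, fun y => ?_⟩
    · have h' : c ≫ x ≫ e.inv = c ≫ y ≫ e.inv := by
        rw [← Category.assoc, ← Category.assoc]; exact congrArg (· ≫ e.inv) h
      exact (cancel_mono e.inv).1 ((hc (n + 1)).1 h')
    · obtain ⟨x, hx⟩ := (hc (n + 1)).2 (y ≫ e.inv)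
      refine ⟨x ≫ e.hom, ?_⟩
      show c ≫ x ≫ e.hom = y
      rw [← Category.assoc, show c ≫ x = y ≫ e.inv from hx, Category.assoc, e.inv_hom_id, Category.comp_id]
  -- divisibility of the kernel
  have hdiv : ∀ (n : ℤ) (x : Y ⟶ B⟦n⟧), a ≫ x = 0 → ∃ x₁, g • x₁ = x ∧ a ≫ x₁ = 0 := by
    intro n x hx
    have h0 : dY ≫ x⟦(1 : ℤ)⟧' = 0 := (hc1 n).1 (by
      show c ≫ dY ≫ x⟦(1 : ℤ)⟧' = c ≫ 0
      rw [comp_zero, ← reassoc_of% hd, ← Functor.map_comp, hx, Functor.map_zero, comp_zero])
    obtain ⟨z, hz⟩ := Triangle.yoneda_exact₃ _ (rot_of_distTriang _ hY) (x⟦(1 : ℤ)⟧') h0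
    change x⟦(1 : ℤ)⟧' = (-(g • 𝟙 Y)⟦(1 : ℤ)⟧') ≫ z at hz
    obtain ⟨z₀, rfl⟩ := (shiftFunctor (DerivedCategory A) (1 : ℤ)).map_surjective (X := Y) (Y := B⟦n⟧) z
    have hx' : x = g • (-z₀) := (shiftFunctor (DerivedCategory A) (1 : ℤ)).map_injective (by
      rw [hz, Preadditive.neg_comp, ← Functor.map_comp, hg, smul_neg, Functor.map_neg])
    have h1 : g • (a ≫ (-z₀)) = 0 := by rw [← Linear.comp_smul, ← hx', hx]
    obtain ⟨u, hu⟩ := Triangle.yoneda_exact₂ _ hX (a ≫ (-z₀)) ((hg _ _).trans h1)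
    change a ≫ (-z₀) = iX ≫ u at hu
    obtain ⟨u', rfl⟩ := (hc n).2 u
    refine ⟨-z₀ - iY ≫ u', ?_, ?_⟩
    · have h2 : g • (iY ≫ u') = 0 := by
        rw [← hg, ← Category.assoc, show (g • 𝟙 Y) ≫ iY = 0 from comp_distTriang_mor_zero₁₂ _ hY, zero_comp]
      rw [smul_sub, h2, sub_zero, ← hx']
    · rw [Preadditive.comp_sub, ← reassoc_of% hi, ← hu, sub_self]
  have hinj : ∀ (n : ℤ) (x : Y ⟶ B⟦n⟧), a ≫ x = 0 → x = 0 := by
    intro n x hx
    choose next hnext using fun y : {y : Y ⟶ B⟦n⟧ // a ≫ y = 0} => hdiv n y.1 y.2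
    let seq : ℕ → {y : Y ⟶ B⟦n⟧ // a ≫ y = 0} := fun i => (fun y => ⟨next y, (hnext y).2⟩)^[i] ⟨x, hx⟩
    have h := (hB Y n).eq_zero (x := fun i => (seq i).1) fun i => by
      show _ = (g • 𝟙 Y) ≫ _
      rw [hg]
      show (seq i).1 = g • (seq (i + 1)).1
      simp only [seq, Function.iterate_succ_apply']
      exact (hnext _).1.symm
    exact congrFun h 0
  intro n
  refine ⟨fun x y h => sub_eq_zero.1 (hinj n _ (by rw [Preadditive.comp_sub, sub_eq_zero]; exact h)), fun y => ?_⟩
  have hstep : ∀ y : X ⟶ B⟦n⟧, ∃ (x : Y ⟶ B⟦n⟧) (y₁ : X ⟶ B⟦n⟧), y = a ≫ x + g • y₁ := by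
    intro y
    obtain ⟨w, hw⟩ := (hc1 n).2 (dX ≫ y⟦(1 : ℤ)⟧')
    change c ≫ w = dX ≫ y⟦(1 : ℤ)⟧' at hw
    let e : B⟦n + 1⟧ ≅ (B⟦n⟧)⟦(1 : ℤ)⟧ := (shiftFunctorAdd' (DerivedCategory A) n 1 (n + 1) rfl).app B
    have h0 : iY ≫ w = 0 := by
      have h1 : a ≫ (iY ≫ w ≫ e.inv) = 0 := by
        rw [← reassoc_of% hi, reassoc_of% hw,
          ← Category.assoc iX, show iX ≫ dX = 0 from comp_distTriang_mor_zero₂₃ _ hX, zero_comp]
      have h2 := hinj (n + 1) _ h1
      rw [← cancel_mono e.inv, zero_comp, Category.assoc]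
      exact h2
    obtain ⟨x', rfl⟩ := Triangle.yoneda_exact₃ _ hY w h0
    obtain ⟨x, rfl⟩ := (shiftFunctor (DerivedCategory A) (1 : ℤ)).map_surjective x'
    have h3 : dX ≫ (y - a ≫ x)⟦(1 : ℤ)⟧' = 0 := by
      rw [Functor.map_sub, Preadditive.comp_sub, ← hw, Functor.map_comp, reassoc_of% hd, sub_eq_zero]
      rfl
    obtain ⟨z, hz⟩ := Triangle.yoneda_exact₃ _ (rot_of_distTriang _ hX) ((y - a ≫ x)⟦(1 : ℤ)⟧') h3
    change (y - a ≫ x)⟦(1 : ℤ)⟧' = (-(g • 𝟙 X)⟦(1 : ℤ)⟧') ≫ z at hz
    obtain ⟨z₀, rfl⟩ := (shiftFunctor (DerivedCategory A) (1 : ℤ)).map_surjective (X := X) (Y := B⟦n⟧) z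
    have hy : y - a ≫ x = g • (-z₀) := (shiftFunctor (DerivedCategory A) (1 : ℤ)).map_injective (by
      rw [hz, Preadditive.neg_comp, ← Functor.map_comp, hg, smul_neg, Functor.map_neg])
    exact ⟨x, -z₀, by rw [← hy]; abel⟩
  choose xf yf hxy using hstep
  let ys : ℕ → (X ⟶ B⟦n⟧) := fun i => yf^[i] y
  obtain ⟨zs, hzs⟩ := (hB Y n).2 fun i => xf (ys i)
  have hzs' : ∀ i, zs i - g • zs (i + 1) = xf (ys i) := fun i => by
    rw [← hg]; exact congrFun hzs i
  have h := (hB X n).eq_zero (x := fun i => ys i - a ≫ zs i) fun i => by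
    show _ = (g • 𝟙 X) ≫ _
    rw [hg]
    show ys i - a ≫ zs i = g • (ys (i + 1) - a ≫ zs (i + 1))
    rw [show ys (i + 1) = yf (ys i) from Function.iterate_succ_apply' _ _ _, smul_sub, ← Linear.comp_smul]
    conv_lhs => rw [hxy (ys i), ← hzs' i, Preadditive.comp_sub]
    abel
  exact ⟨zs 0, (sub_eq_zero.1 (congrFun h 0)).symm⟩

/-- Precomposition is bijective if it is so on Koszul complexes. -/
theorem pre_of_kos {X Y : CochainComplex A ℤ} (φ : KHom (scal R X) (scal R Y)) (l : List R)
    (B : DerivedCategory A)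
    (hB : ∀ g ∈ l, ∀ (Z : DerivedCategory A) (n : ℤ), Comp (Preadditive.leftComp (B⟦n⟧) (g • 𝟙 Z)))
    (h : Pre (DerivedCategory.Q.map (φ.kos l).f) B) : Pre (DerivedCategory.Q.map φ.f) B := by
  induction l with
  | nil => exact h
  | cons g l ih =>
    refine ih (fun g' hg' => hB g' (List.mem_cons_of_mem _ hg')) ?_
    have hact : ∀ Z : CochainComplex A ℤ, DerivedCategory.Q.map ((Null.kos l (scal R Z)).act g) =
        g • 𝟙 (DerivedCategory.Q.obj (Null.kos l (scal R Z)).X) := fun Z => by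
      have key : ∀ a b : KAct R A, a = b → b.act g = g • 𝟙 b.X → a.act g = g • 𝟙 a.X := by
        rintro a _ rfl h; exact h
      rw [key _ _ (kos_scal Z l) rfl, Functor.map_smul, CategoryTheory.Functor.map_id]
    have htri : ∀ Z : CochainComplex A ℤ, ∀ m, m = DerivedCategory.Q.map ((Null.kos l (scal R Z)).act g) →
        Triangle.mk m (DerivedCategory.Q.map (CochainComplex.mappingCone.inr ((Null.kos l (scal R Z)).act g)))
          (DerivedCategory.Q.map (CochainComplex.mappingCone.triangle ((Null.kos l (scal R Z)).act g)).mor₃ ≫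
            (DerivedCategory.Q.commShiftIso (1 : ℤ)).hom.app _) ∈ distTriang (DerivedCategory A) := by
      rintro Z m rfl
      exact DerivedCategory.mappingCone_triangle_distinguished _
    let T := CochainComplex.mappingCone.triangleMap _ _ (φ.kos l).f (φ.kos l).f ((φ.kos l).comm g)
    refine pre_of_triangles (htri X _ (hact X).symm) (htri Y _ (hact Y).symm) (DerivedCategory.Q.map (φ.kos l).f)
      (DerivedCategory.Q.map ((φ.kos l).cone g).f) ?_ ?_ B (hB g List.mem_cons_self) h
    · exact (DerivedCategory.Q.map_comp _ _).symm.trans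
        ((congrArg DerivedCategory.Q.map T.comm₂).trans (DerivedCategory.Q.map_comp _ _))
    · have h3 := T.comm₃
      dsimp only [T, CochainComplex.mappingCone.triangleMap] at h3
      have hn : (DerivedCategory.Q.commShiftIso (1 : ℤ)).hom.app (Null.kos l (scal R X)).X ≫
          (DerivedCategory.Q.map (φ.kos l).f)⟦(1 : ℤ)⟧' =
          DerivedCategory.Q.map ((φ.kos l).f⟦(1 : ℤ)⟧') ≫
            (DerivedCategory.Q.commShiftIso (1 : ℤ)).hom.app (Null.kos l (scal R Y)).X :=
        ((DerivedCategory.Q.commShiftIso (1 : ℤ)).hom.naturality (φ.kos l).f).symm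
      refine (Category.assoc _ _ _).trans ((congrArg (_ ≫ ·) hn).trans ?_)
      exact (Category.assoc _ _ _).symm.trans ((congrArg (· ≫ _) ((DerivedCategory.Q.map_comp _ _).symm.trans
        ((congrArg DerivedCategory.Q.map h3).trans (DerivedCategory.Q.map_comp _ _)))).trans (Category.assoc _ _ _))

end Groth.Agent.H16Derived.DerCompLib.Flat
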