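import Groth.Agent.H16Derived.DerComp.Flat.Free

/-!
# The universal map is a completion on each generator
-/

set_option autoImplicit false
set_option linter.style.haveILetI false
set_option backward.isDefEq.respectTransparency false

universe u v₁ u₁

open CategoryTheory CategoryTheory.Limits Opposite

namespace Groth.Agent.H16Derived.DerCompLib.Flat

open H15Site H15Site.ModTensor Null

section Generic

variable {A : Type u₁} [Category.{v₁} A] [Abelian A] [HasDerivedCategory A]
  {B : Type u₁} [Category.{v₁} B] [Abelian B] [HasDerivedCategory B]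

theorem pre_cancel_left {X Y Z : DerivedCategory A} (i : X ⟶ Y) [IsIso i] (ψ : Y ⟶ Z) {M : DerivedCategory A}
    (h : Pre (i ≫ ψ) M) : Pre ψ M := by
  have := pre_comp (inv i) (i ≫ ψ) (pre_of_isIso (inv i) M) h
  rwa [IsIso.inv_hom_id_assoc] at this

theorem pre_left_adjoint {Φ : DerivedCategory A ⥤ DerivedCategory B} [Φ.CommShift ℤ]
    {R : DerivedCategory B ⥤ DerivedCategory A} [R.CommShift ℤ] (adj : Φ ⊣ R) {X Y : DerivedCategory A}
    (ψ : X ⟶ Y) (M : DerivedCategory B) (h : Pre ψ (R.obj M)) : Pre (Φ.map ψ) M := by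
  intro n
  let E := fun (P : DerivedCategory A) =>
    (adj.homEquiv P (M⟦n⟧)).trans ((Iso.refl P).homCongr ((R.commShiftIso n).app M))
  have heq : (fun x : Φ.obj Y ⟶ M⟦n⟧ => Φ.map ψ ≫ x) = (E X).symm ∘ (fun y => ψ ≫ y) ∘ E Y := funext fun x => by
    rw [Function.comp_apply, Function.comp_apply, Equiv.eq_symm_apply]
    simp [E, Iso.homCongr, Adjunction.homEquiv_naturality_left]
  rw [heq]
  exact (E X).symm.bijective.comp ((h n).comp (E Y).bijective)

theorem pre_single_map (G : A ⥤ B) [G.Additive] [PreservesFiniteLimits G] [PreservesFiniteColimits G]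
    {R : DerivedCategory B ⥤ DerivedCategory A} [R.CommShift ℤ] (adj : G.mapDerivedCategory ⊣ R)
    {X Y : A} (ψ : X ⟶ Y) (M : DerivedCategory B)
    (h : Pre (DerivedCategory.Q.map ((HomologicalComplex.single A (ComplexShape.up ℤ) 0).map ψ)) (R.obj M)) :
    Pre (DerivedCategory.Q.map ((HomologicalComplex.single B (ComplexShape.up ℤ) 0).map (G.map ψ))) M := by
  have h1 := pre_left_adjoint adj _ M h
  let σ := fun Z : A => G.mapDerivedCategoryFactors.app ((HomologicalComplex.single A (ComplexShape.up ℤ) 0).obj Z) ≪≫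
    DerivedCategory.Q.mapIso ((HomologicalComplex.singleMapHomologicalComplex G (ComplexShape.up ℤ) 0).app Z)
  have hn : G.mapDerivedCategory.map (DerivedCategory.Q.map ((HomologicalComplex.single A (ComplexShape.up ℤ) 0).map ψ)) ≫
      (σ Y).hom = (σ X).hom ≫ DerivedCategory.Q.map ((HomologicalComplex.single B (ComplexShape.up ℤ) 0).map (G.map ψ)) := by
    have a := G.mapDerivedCategoryFactors.hom.naturality ((HomologicalComplex.single A (ComplexShape.up ℤ) 0).map ψ)
    have b := (HomologicalComplex.singleMapHomologicalComplex G (ComplexShape.up ℤ) 0).hom.naturality ψ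
    simp only [σ, Iso.trans_hom, Iso.app_hom, Functor.mapIso_hom]
    dsimp at a b ⊢
    rw [reassoc_of% a, ← Functor.map_comp, b, Functor.map_comp, Category.assoc]
  refine pre_cancel_left (σ X).hom _ ?_
  rw [← hn]
  exact pre_comp _ _ h1 (pre_of_isIso _ M)

theorem pre_single_of_eq {X Y Y' : A} (i : X ⟶ X) [IsIso i] (ψ : X ⟶ Y') (a : X ⟶ Y) (j : Y ⟶ Y') [IsIso j]
    (he : a ≫ j = i ≫ ψ) (M : DerivedCategory A)
    (h : Pre (DerivedCategory.Q.map ((HomologicalComplex.single A (ComplexShape.up ℤ) 0).map a)) M) :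
    Pre (DerivedCategory.Q.map ((HomologicalComplex.single A (ComplexShape.up ℤ) 0).map ψ)) M := by
  refine pre_cancel_left (DerivedCategory.Q.map ((HomologicalComplex.single A (ComplexShape.up ℤ) 0).map i)) _ ?_
  rw [← Functor.map_comp, ← Functor.map_comp, ← he, Functor.map_comp, Functor.map_comp]
  exact pre_comp _ _ h (pre_of_isIso _ M)

end Generic

attribute [local instance] HasDerivedCategory.standard
attribute [local instance 10000] SiteInst.hasSheafifySite SiteInst.hasWeakSheafifySite
attribute [local instance] preservesFiniteLimits_restr' preservesFiniteColimits_restr' additive_restr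

variable {C : Type u} [SmallCategory C] {J : GrothendieckTopology C} {O O' : Sheaf J CommRingCat.{u}} (φ : O ⟶ O')

variable {φ} {I : DerComp.IdealSh O} {I' : DerComp.IdealSh O'} {U : C} {m : List (O.obj.obj (op U))}

theorem nSurj_NU (hI' : DerComp.IsIdealExt φ I I')
    (hsurj : ∀ (U : C) (f' : O'.obj.obj (op U)), ∃ S ∈ J U, ∀ ⦃V : C⦄ (g : V ⟶ U), S g →
      ∃ a : O.obj.obj (op V), (O'.obj.map g.op).hom f' - (φ.hom.app (op V)).hom a ∈ I'.ideal V)
    (hm : Gen m I) : NSurj (NU U φ) (phiU U φ) (m.map (DerComp.GSec.ofSect O U)) := by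
  intro V n
  have hnat : ∀ {Y Z : C} (t : Z ⟶ Y) (x : O.obj.obj (op Y)),
      (φ.hom.app (op Z)).hom (res O t x) = res O' t ((φ.hom.app (op Y)).hom x) :=
    fun {Y Z} t x => NatTrans.naturality_apply φ.hom t.op x
  have hm' : Gen (m.map (φ.hom.app (op U)).hom) I' := gen_push (scalarRMor φ) I I' hI' m hm
  obtain ⟨S, hS, hS'⟩ := hsurj V.left (show O'.obj.obj (op V.left) from n)
  have key : ∀ ⦃Z : C⦄ (k : Z ⟶ V.left), S k → ∃ T ∈ J Z, ∀ ⦃Z' : C⦄ (t : Z' ⟶ Z), T t →
      ∃ a : O.obj.obj (op Z'), res O' (t ≫ k) (show O'.obj.obj (op V.left) from n) - (φ.hom.app (op Z')).hom a ∈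
        spanAt (m.map (φ.hom.app (op U)).hom) ((t ≫ k) ≫ V.hom) := by
    intro Z k hk
    obtain ⟨a, ha⟩ := hS' k hk
    obtain ⟨T, hT, hT'⟩ := hm'.2 (k ≫ V.hom) _ ha
    refine ⟨T, hT, fun Z' t ht => ⟨res O t a, ?_⟩⟩
    have := hT' t ht
    rw [map_sub, res_res, ← hnat] at this
    simpa only [Category.assoc] using this
  choose T hT hT' using key
  refine ⟨(Sieve.overEquiv V).symm (Sieve.bind S.arrows T), ?_, fun Z k hk => ?_⟩
  · exact J.overEquiv_symm_mem_over _ _ (J.bind_covering hS hT)
  · obtain ⟨Y, t, g, hg, ht, hfac⟩ := hk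
    obtain ⟨a, ha⟩ := hT' g hg t ht
    have hw : (t ≫ g) ≫ V.hom = Z.hom := by rw [hfac]; exact Over.w k
    rw [hw, hfac] at ha
    refine ⟨(show (O.over U).obj.obj (op Z) from a), ?_⟩
    let Zop : (Over U)ᵒᵖ := op Z
    suffices h : ∀ x : O'.obj.obj (op Z.left), x ∈ spanAt (m.map (φ.hom.app (op U)).hom) Z.hom →
        (show Sc (NU U φ) Zop from x) ∈ gN (NU U φ) (m.map (DerComp.GSec.ofSect O U)) Zop by
      have he : (show Sc (NU U φ) Zop from (res O' k.left (show O'.obj.obj (op V.left) from n) - (φ.hom.app (op Z.left)).hom a)) =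
          rs ((forg (O.over U)).obj (NU U φ)) k.op n - (show Rg (O.over U) Zop from a) • e1 (NU U φ) (phiU U φ) Zop := by
        show _ - _ = _ - _
        congr 1
        show (φ.hom.app (op Z.left)).hom a = (φ.hom.app (op Z.left)).hom a * (φ.hom.app (op Z.left)).hom 1
        rw [map_one, mul_one]
      exact he ▸ h _ ha
    intro x hx
    induction hx using Submodule.span_induction with
    | mem x hx =>
      obtain ⟨g', hg', rfl⟩ := hx
      obtain ⟨g₀, hg₀, rfl⟩ := List.mem_map.1 hg'
      refine AddSubgroup.subset_closure ⟨DerComp.GSec.ofSect O U g₀, List.mem_map.2 ⟨g₀, hg₀, rfl⟩,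
        (show Sc (NU U φ) Zop from (1 : O'.obj.obj (op Z.left))), ?_⟩
      show res O' Z.hom ((φ.hom.app (op U)).hom g₀) =
        (φ.hom.app (op Z.left)).hom (res O Z.hom g₀) * (1 : O'.obj.obj (op Z.left))
      rw [mul_one]
      exact (hnat Z.hom g₀).symm
    | zero => exact zero_mem (gN (NU U φ) (m.map (DerComp.GSec.ofSect O U)) Zop)
    | add x y _ _ hx hy => exact add_mem hx hy
    | smul r x _ hx =>
      clear ha
      have key : ∀ z ∈ gN (NU U φ) (m.map (DerComp.GSec.ofSect O U)) Zop,
          (show Sc (NU U φ) Zop from r * (show O'.obj.obj (op Z.left) from z)) ∈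
            gN (NU U φ) (m.map (DerComp.GSec.ofSect O U)) Zop := by
        intro z hz
        induction hz using AddSubgroup.closure_induction with
        | mem z hz =>
          obtain ⟨g', hg', n', rfl⟩ := hz
          refine AddSubgroup.subset_closure ⟨g', hg', (show Sc (NU U φ) Zop from r * (show O'.obj.obj (op Z.left) from n')), ?_⟩
          exact mul_left_comm (G := O'.obj.obj (op Z.left)) _ _ _
        | zero =>
          exact (mul_zero r).symm ▸ zero_mem (gN (NU U φ) (m.map (DerComp.GSec.ofSect O U)) Zop)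
        | add p q _ _ hp hq =>
          exact (mul_add r (show O'.obj.obj (op Z.left) from p) q).symm ▸ add_mem hp hq
        | neg p _ hp =>
          exact (mul_neg r (show O'.obj.obj (op Z.left) from p)).symm ▸ neg_mem hp
      exact key _ hx

theorem nInj_NU (hI' : DerComp.IsIdealExt φ I I')
    (hinj : ∀ (U : C) (f : O.obj.obj (op U)), (φ.hom.app (op U)).hom f ∈ I'.ideal U → f ∈ I.ideal U)
    (hm : Gen m I) : NInj (NU U φ) (phiU U φ) (m.map (DerComp.GSec.ofSect O U)) := by
  intro V a ha
  have h : ∀ x ∈ gN (NU U φ) (m.map (DerComp.GSec.ofSect O U)) (op V),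
      (show O'.obj.obj (op V.left) from x) ∈ I'.ideal V.left := by
    intro x hx
    induction hx using AddSubgroup.closure_induction with
    | mem x hx =>
      obtain ⟨g', hg', n', rfl⟩ := hx
      obtain ⟨g₀, hg₀, rfl⟩ := List.mem_map.1 hg'
      exact Ideal.mul_mem_right (show O'.obj.obj (op V.left) from n') _
        (hI'.1 _ _ (I.map_mem V.hom (hm.1 g₀ hg₀)))
    | zero => exact Submodule.zero_mem _
    | add p q _ _ hp hq => exact Submodule.add_mem _ hp hq
    | neg p _ hp => exact Submodule.neg_mem _ hp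
  have h0 : (φ.hom.app (op V.left)).hom (show O.obj.obj (op V.left) from a) ∈ I'.ideal V.left := by
    have h1 : (φ.hom.app (op V.left)).hom (show O.obj.obj (op V.left) from a) *
        (φ.hom.app (op V.left)).hom (1 : O.obj.obj (op V.left)) ∈ I'.ideal V.left := h _ ha
    rwa [map_one, mul_one] at h1
  obtain ⟨S, hS, hS'⟩ := hm.2 V.hom _ (hinj V.left _ h0)
  refine ⟨(Sieve.overEquiv V).symm S, ?_, fun Z k hk => ?_⟩
  · exact J.overEquiv_symm_mem_over _ _ hS
  · have := hS' k.left hk
    rw [Over.w k] at this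
    refine Ideal.span_mono ?_ this
    rintro _ ⟨g₀, hg₀, rfl⟩
    exact ⟨DerComp.GSec.ofSect O U g₀, List.mem_map.2 ⟨g₀, hg₀, rfl⟩, rfl⟩

/-- The universal map induces bijections into complete objects. -/
theorem pre_c1 (hI' : DerComp.IsIdealExt φ I I')
    (hflat : ModSite.IsFlat ((Rs φ).obj (ModSite.unit O')))
    (hinj : ∀ (U : C) (f : O.obj.obj (op U)), (φ.hom.app (op U)).hom f ∈ I'.ideal U → f ∈ I.ideal U)
    (hsurj : ∀ (U : C) (f' : O'.obj.obj (op U)), ∃ S ∈ J U, ∀ ⦃V : C⦄ (g : V ⟶ U), S g →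
      ∃ a : O.obj.obj (op V), (O'.obj.map g.op).hom f' - (φ.hom.app (op V)).hom a ∈ I'.ideal V)
    (hm : Gen m I) (M : DerivedCategory (ModSite.Mod O)) (hM : DerComp.IsDerComp O I M) :
    Pre (DerivedCategory.Q.map ((HomologicalComplex.single (ModSite.Mod O) (ComplexShape.up ℤ) 0).map (c1 U φ))) M := by
  haveI := isIso_tau U φ
  haveI := ModOver.additive_extZero O U
  haveI := ModOver.preservesFiniteLimits_extZero O U
  haveI := ModOver.preservesFiniteColimits_extZero O U
  let E := ModSite.extZero O U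
  let a := (aSh O).map ((ModOver.jp O U).map ((forg (O.over U)).map (phiU U φ)))
  rw [c1, Functor.map_comp, Functor.map_comp]
  refine pre_comp _ _ ?_ (pre_of_isIso _ M)
  have hj : a ≫ (ModOver.jApp O U (NU U φ)).hom = (F0Iso O U).hom ≫ E.map (phiU U φ) :=
    ModOver.jApp_naturality O U (phiU U φ)
  have hE : Pre (DerivedCategory.Q.map ((HomologicalComplex.single (ModSite.Mod O) (ComplexShape.up ℤ) 0).map
      (E.map (phiU U φ)))) M := by
    refine pre_single_map E (ExactAdj.mapDerivedCategoryAdj (ModSite.extZeroAdj O U)) (phiU U φ) M ?_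
    have hN : ModSite.IsFlat (NU U φ) := ModOver.isFlat_restr O U hflat
    have hp := pre_single hN (m.map (DerComp.GSec.ofSect O U))
      (quotIso (nSurj_NU hI' hsurj hm) (nInj_NU hI' hinj hm))
      ((ModSite.restr O U).mapDerivedCategory.obj M) (φN := phiU U φ) (fun g hg Z n => by
        obtain ⟨g₀, hg₀, rfl⟩ := List.mem_map.1 hg
        exact comp_restr_of_compAt O g₀ M
          (fun V k => (isDerComp_iff O I M).1 hM V _ (I.map_mem k (hm.1 g₀ hg₀))) Z n)
    let t := ModOver.tensorUnitIso (O.over U)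
    let u := ModSite.unit (O.over U)
    have he : (ι (NU U φ) (phiU U φ)).app u ≫ t.hom.app (NU U φ) =
        ((((tLIso u).symm ≪≫ t).inv.app u) ≫ t.hom.app u) ≫ phiU U φ := by
      show ((((tLIso u).symm ≪≫ t).inv.app u) ≫ ((ModSite.tensorBi (O.over U)).obj u).map (phiU U φ)) ≫ _ = _
      rw [Category.assoc, t.hom.naturality (phiU U φ), Category.assoc]
      rfl
    exact pre_single_of_eq (((tLIso u).symm ≪≫ t).inv.app u ≫ t.hom.app u) _ _ (t.hom.app (NU U φ)) he _ hp
  have h2 : Pre (DerivedCategory.Q.map ((HomologicalComplex.single (ModSite.Mod O) (ComplexShape.up ℤ) 0).map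
      ((F0Iso O U).hom ≫ E.map (phiU U φ) ≫ (ModOver.jApp O U (NU U φ)).inv))) M := by
    simp only [Functor.map_comp]
    exact pre_comp _ _ (pre_of_isIso _ M) (pre_comp _ _ hE (pre_of_isIso _ M))
  rw [← reassoc_of% hj, Iso.hom_inv_id, Category.comp_id] at h2
  exact h2

end Groth.Agent.H16Derived.DerCompLib.Flat
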