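import Groth.Agent.H16Derived.DerComp.Flat.Local
import Groth.Agent.H15Site.CoreflDer
import Groth.Agent.H17.BMod.Colim

/-!
# Restriction of scalars along a flat map identifies complete objects
-/

set_option autoImplicit false
set_option linter.style.haveILetI false
set_option backward.isDefEq.respectTransparency false

universe u v₁ u₁ w₁ w₂

open CategoryTheory CategoryTheory.Limits CategoryTheory.Pretriangulated Opposite

namespace Groth.Agent.H16Derived.DerCompLib.Flat

section Shifts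

variable {T : Type*} [Category T] [HasShift T ℤ] [Preadditive T] [∀ n : ℤ, (shiftFunctor T n).Additive]

/-- Postcomposition and shifts. -/
theorem post_shift {P Z : T} (f : P ⟶ Z) (Y : T) (n : ℤ) :
    (Function.Bijective fun y : Y ⟶ P⟦n⟧ => y ≫ f⟦n⟧') ↔
      Function.Bijective fun y : Y⟦-n⟧ ⟶ P => y ≫ f := by
  have h : (fun y : Y ⟶ P⟦n⟧ => y ≫ f⟦n⟧') ∘ shAdd Y P n =
      shAdd Y Z n ∘ fun y : Y⟦-n⟧ ⟶ P => y ≫ f := funext fun y => by
    simp [shAdd]
  rw [← (shAdd Y P n).bijective.of_comp_iff fun y : Y ⟶ P⟦n⟧ => y ≫ f⟦n⟧', h]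
  exact (shAdd Y Z n).bijective.of_comp_iff' _

omit [HasShift T ℤ] [Preadditive T] [∀ n : ℤ, (shiftFunctor T n).Additive] in
theorem bij_post_of_iso {P Z : T} (f : P ⟶ Z) {Y Y' : T} (i : Y ≅ Y')
    (h : Function.Bijective fun y : Y ⟶ P => y ≫ f) : Function.Bijective fun y : Y' ⟶ P => y ≫ f := by
  refine ⟨fun x y hxy => (cancel_epi i.hom).1 (h.1 ?_), fun z => ?_⟩
  · show (i.hom ≫ x) ≫ f = (i.hom ≫ y) ≫ f
    rw [Category.assoc, Category.assoc]
    exact congrArg (i.hom ≫ ·) hxy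
  · obtain ⟨y, hy⟩ := h.2 (i.hom ≫ z)
    change y ≫ f = i.hom ≫ z at hy
    exact ⟨i.inv ≫ y, by simp [hy]⟩

variable [HasZeroObject T] [Pretriangulated T]

/-- The cone of a map bijective on maps from the shifts of `X` receives no maps from them. -/
theorem subsingleton_cone {X : T} {tri : Triangle T} (hT : tri ∈ distTriang T)
    (h : ∀ n : ℤ, Function.Bijective fun y : X ⟶ tri.obj₁⟦n⟧ => y ≫ tri.mor₁⟦n⟧') (j : ℤ) :
    Subsingleton (X⟦j⟧ ⟶ tri.obj₃) := by
  have hj : ∀ j : ℤ, Function.Bijective fun y : X⟦j⟧ ⟶ tri.obj₁ => y ≫ tri.mor₁ := fun j => by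
    have := (post_shift tri.mor₁ X (-j)).1 (h (-j))
    rwa [neg_neg] at this
  have h1 : Function.Bijective fun y : X⟦j⟧ ⟶ tri.obj₁⟦(1 : ℤ)⟧ => y ≫ tri.mor₁⟦(1 : ℤ)⟧' :=
    (post_shift tri.mor₁ _ 1).2 (bij_post_of_iso _ ((shiftFunctorAdd T j (-1)).app X) (hj _))
  refine subsingleton_of_forall_eq 0 fun x => ?_
  obtain ⟨y, rfl⟩ := Triangle.coyoneda_exact₃ tri hT x (h1.1 (by
    show (x ≫ tri.mor₃) ≫ tri.mor₁⟦(1 : ℤ)⟧' = 0 ≫ tri.mor₁⟦(1 : ℤ)⟧'
    rw [Category.assoc, comp_distTriang_mor_zero₃₁ _ hT, comp_zero, zero_comp]))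
  obtain ⟨z, rfl⟩ := (hj j).2 y
  show (z ≫ tri.mor₁) ≫ tri.mor₂ = 0
  rw [Category.assoc, comp_distTriang_mor_zero₁₂ _ hT, comp_zero]

end Shifts

section Counit

variable {A : Type u₁} [Category.{v₁} A] [Abelian A] [HasDerivedCategory.{w₁} A]
  {B : Type u₁} [Category.{v₁} B] [Abelian B] [HasDerivedCategory.{w₂} B]
  {L : DerivedCategory A ⥤ DerivedCategory B} {R : DerivedCategory B ⥤ DerivedCategory A} [R.CommShift ℤ]
  {Ψ : DerivedCategory A ⥤ DerivedCategory B}

theorem counit_shift (adj : R ⊣ Ψ) [Ψ.CommShift ℤ] [adj.CommShift ℤ] (Z : DerivedCategory A) (n : ℤ) :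
    (adj.counit.app Z)⟦n⟧' = ((Ψ ⋙ R).commShiftIso n).inv.app Z ≫ adj.counit.app (Z⟦n⟧) := by
  have h := NatTrans.shift_app_comm adj.counit n Z
  rw [Functor.commShiftIso_id_hom_app] at h
  exact (Iso.eq_inv_comp (((Ψ ⋙ R).commShiftIso n).app Z)).2 (h.trans (Category.comp_id _))

/-- Where the unit computes maps into complete objects, so does the counit. -/
theorem bijective_counit (adjL : L ⊣ R) (adj : R ⊣ Ψ) [Ψ.CommShift ℤ] [adj.CommShift ℤ]
    {X : DerivedCategory A} {Z : DerivedCategory A} (h : Pre (adjL.unit.app X) Z) (n : ℤ) :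
    Function.Bijective fun y : X ⟶ (R.obj (Ψ.obj Z))⟦n⟧ => y ≫ (adj.counit.app Z)⟦n⟧' := by
  let i : (R.obj (Ψ.obj Z))⟦n⟧ ≅ R.obj (Ψ.obj (Z⟦n⟧)) := (((Ψ ⋙ R).commShiftIso n).app Z).symm
  let e : (X ⟶ (R.obj (Ψ.obj Z))⟦n⟧) → (R.obj (L.obj X) ⟶ Z⟦n⟧) := fun y =>
    (adj.homEquiv _ _).symm ((adjL.homEquiv _ _).symm (y ≫ i.hom))
  have he : Function.Bijective e :=
    (Equiv.bijective _).comp ((Equiv.bijective _).comp
      (⟨fun y z hyz => (cancel_mono i.hom).1 hyz, fun y => ⟨y ≫ i.inv, by simp⟩⟩ :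
        Function.Bijective fun y : X ⟶ (R.obj (Ψ.obj Z))⟦n⟧ => y ≫ i.hom))
  have hy : (fun y : X ⟶ (R.obj (Ψ.obj Z))⟦n⟧ => y ≫ (adj.counit.app Z)⟦n⟧') =
      (fun x => adjL.unit.app X ≫ x) ∘ e := funext fun y => by
    show _ = adjL.unit.app X ≫ (adj.homEquiv _ _).symm _
    rw [Adjunction.homEquiv_counit]
    refine Eq.trans ?_ (Category.assoc _ _ _)
    refine Eq.trans ?_ (congrArg (· ≫ adj.counit.app (Z⟦n⟧))
      (((adjL.homEquiv X _).apply_symm_apply (y ≫ i.hom)).symm.trans (Adjunction.homEquiv_unit ..)))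
    exact (congrArg (y ≫ ·) (counit_shift adj Z n)).trans (Category.assoc _ _ _).symm
  rw [hy]
  exact (h n).comp he

/-- The counit is an isomorphism once it is so on a separating family. -/
theorem isIso_counit [IsGrothendieckAbelian.{v₁} A] [R.IsTriangulated] (adjL : L ⊣ R) (adj : R ⊣ Ψ)
    [Ψ.CommShift ℤ] [adj.CommShift ℤ] {ι : Type*} (F : ι → A)
    (hF : ∀ {X Y : A} (φ : X ⟶ Y), (∀ i (h : F i ⟶ X), h ≫ φ = 0) → φ = 0) (Z : DerivedCategory A)
    (h : ∀ i, Pre (adjL.unit.app ((S0 (A := A)).obj (F i))) Z) : IsIso (adj.counit.app Z) := by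
  obtain ⟨C, a, d, hT⟩ := distinguished_cocone_triangle (adj.counit.app Z)
  exact ((Triangle.mk (adj.counit.app Z) a d).isZero₃_iff_isIso₁ hT).1
    (isZero_of_separating hF C fun i j => subsingleton_cone hT (bijective_counit adjL adj (h i)) j)

omit [R.CommShift ℤ] in
/-- Where the counit is an isomorphism, a conservative left adjoint is fully faithful. -/
theorem bijective_map_of_isIso_counit (adj : R ⊣ Ψ) [R.ReflectsIsomorphisms] (K L' : DerivedCategory B)
    [IsIso (adj.counit.app (R.obj L'))] : Function.Bijective fun ψ : K ⟶ L' => R.map ψ := by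
  haveI : IsIso (R.map (adj.unit.app L')) := by
    rw [show R.map (adj.unit.app L') = inv (adj.counit.app (R.obj L')) from
      IsIso.eq_inv_of_inv_hom_id (adj.left_triangle_components L')]
    infer_instance
  haveI := isIso_of_reflects_iso (adj.unit.app L') R
  have h : (fun ψ : K ⟶ L' => R.map ψ) =
      (adj.homEquiv K (R.obj L')).symm ∘ fun ψ : K ⟶ L' => ψ ≫ adj.unit.app L' := funext fun ψ => by
    rw [Function.comp_apply, Equiv.eq_symm_apply, Adjunction.homEquiv_unit]
    exact (adj.unit.naturality ψ).symm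
  rw [h]
  exact (Equiv.bijective _).comp ⟨fun x y hxy => (cancel_mono (adj.unit.app L')).1 hxy,
    fun y => ⟨y ≫ inv (adj.unit.app L'), by simp⟩⟩

end Counit

section Universal

variable {A : Type u₁} [Category.{v₁} A] [Abelian A] [HasDerivedCategory.{w₁} A]
  {B : Type u₁} [Category.{v₁} B] [Abelian B] [HasDerivedCategory.{w₂} B]
  (G : B ⥤ A) [G.Additive] [PreservesFiniteLimits G] [PreservesFiniteColimits G]

/-- The unit on a single object is given by a universal map. -/
theorem pre_unit_of_universal {L : DerivedCategory A ⥤ DerivedCategory B} (adj : L ⊣ G.mapDerivedCategory)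
    {X : A} {Y Y₁ : B} (e₀ : L.obj ((S0 (A := A)).obj X) ≅ (S0 (A := B)).obj Y) (c : X ⟶ G.obj Y₁)
    (hc : ∀ W, Function.Bijective fun a : Y₁ ⟶ W => c ≫ G.map a) (M : DerivedCategory A)
    (hM : Pre (DerivedCategory.Q.map ((HomologicalComplex.single A (ComplexShape.up ℤ) 0).map c)) M) :
    Pre (adj.unit.app ((S0 (A := A)).obj X)) M := by
  let σ : ∀ W : B, G.mapDerivedCategory.obj ((S0 (A := B)).obj W) ≅ (S0 (A := A)).obj (G.obj W) :=
    fun W => (G.mapDerivedCategorySingleFunctor 0).app W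
  have hσ : ∀ {W W' : B} (a : W ⟶ W'),
      G.mapDerivedCategory.map ((S0 (A := B)).map a) ≫ (σ W').hom = (σ W).hom ≫ (S0 (A := A)).map (G.map a) :=
    fun a => (G.mapDerivedCategorySingleFunctor 0).hom.naturality a
  obtain ⟨c', hc'⟩ := (S0 (A := A)).map_surjective (adj.homEquiv _ _ e₀.hom ≫ (σ Y).hom)
  have huniv : ∀ W, Function.Bijective fun a : Y ⟶ W => c' ≫ G.map a := fun W => by
    let E : (Y ⟶ W) → ((S0 (A := A)).obj X ⟶ (S0 (A := A)).obj (G.obj W)) := fun a =>
      adj.homEquiv _ _ (e₀.hom ≫ (S0 (A := B)).map a) ≫ (σ W).hom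
    have hb₁ : Function.Bijective fun y : (S0 (A := A)).obj X ⟶
        G.mapDerivedCategory.obj ((S0 (A := B)).obj W) => y ≫ (σ W).hom :=
      ⟨fun x y h => (cancel_mono (σ W).hom).1 h, fun y => ⟨y ≫ (σ W).inv, by simp⟩⟩
    have hb₂ : Function.Bijective fun y : (S0 (A := B)).obj Y ⟶ (S0 (A := B)).obj W => e₀.hom ≫ y :=
      ⟨fun x y h => (cancel_epi e₀.hom).1 h, fun y => ⟨e₀.inv ≫ y, by simp⟩⟩
    have hb₃ : Function.Bijective ((S0 (A := B)).map (X := Y) (Y := W)) :=
      ⟨fun x y h => (S0 (A := B)).map_injective h, fun y => (S0 (A := B)).map_surjective y⟩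
    have hb₄ : Function.Bijective ((S0 (A := A)).map (X := X) (Y := G.obj W)) :=
      ⟨fun x y h => (S0 (A := A)).map_injective h, fun y => (S0 (A := A)).map_surjective y⟩
    have hE : Function.Bijective E :=
      hb₁.comp ((Equiv.bijective (adj.homEquiv _ _)).comp (hb₂.comp hb₃))
    have he : (S0 (A := A)).map ∘ (fun a : Y ⟶ W => c' ≫ G.map a) = E := funext fun a => by
      show (S0 (A := A)).map (c' ≫ G.map a) = adj.homEquiv _ _ (e₀.hom ≫ _) ≫ _
      rw [Functor.map_comp, hc', Category.assoc, ← hσ, adj.homEquiv_naturality_right, Category.assoc]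
    exact (hb₄.of_comp_iff' _).1 (he ▸ hE)
  obtain ⟨a, ha⟩ := (huniv Y₁).2 c
  obtain ⟨b, hb⟩ := (hc Y).2 c'
  change c' ≫ G.map a = c at ha
  change c ≫ G.map b = c' at hb
  haveI : IsIso b := ⟨a, (hc Y₁).1 (by simp [reassoc_of% hb, ha]), (huniv Y).1 (by simp [reassoc_of% ha, hb])⟩
  have h1 : Pre (DerivedCategory.Q.map ((HomologicalComplex.single A (ComplexShape.up ℤ) 0).map c')) M := by
    rw [← hb, Functor.map_comp, Functor.map_comp]
    exact pre_comp _ _ hM (pre_of_isIso _ M)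
  have h2 : adj.unit.app ((S0 (A := A)).obj X) =
      (S0 (A := A)).map c' ≫ (σ Y).inv ≫ G.mapDerivedCategory.map e₀.inv := by
    rw [hc', Category.assoc, Iso.hom_inv_id_assoc, ← adj.homEquiv_naturality_right, e₀.hom_inv_id,
      adj.homEquiv_id]
  rw [h2]
  exact pre_comp _ _ h1 (pre_of_isIso _ M)

end Universal

open H15Site H15Site.ModTensor H15Site.OverPre Null

attribute [local instance] HasDerivedCategory.standard
attribute [local instance] PullKFlat.additive_pull
attribute [local instance 10000] SiteInst.hasSheafifySite SiteInst.hasWeakSheafifySite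

variable {C : Type u} [SmallCategory C] {J : GrothendieckTopology C} {O O' : Sheaf J CommRingCat.{u}} (φ : O ⟶ O')

theorem isLeftAdjoint_Rs : (Rs φ).IsLeftAdjoint := by
  haveI := H10Coh.isGrothendieckAbelian_sheafOfModules (ModSite.ringSh O')
  haveI : PreservesColimitsOfSize.{u, u} (Rs φ) := H17.BMod.preservesColimitsOfSize_restrictScalars _
  exact isLeftAdjoint_of_preservesColimits_of_isSeparating (isSeparator_separator (ModSite.Mod O')) _

section

variable [PreservesFiniteLimits (Rs φ)] [PreservesFiniteColimits (Rs φ)]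

/-- A left adjoint of restriction, computed on flat objects. -/
theorem exists_left_adjoint : ∃ (L : DerivedCategory (ModSite.Mod O) ⥤ DerivedCategory (ModSite.Mod O'))
    (_ : L ⊣ (Rs φ).mapDerivedCategory), ∀ X : ModSite.Mod O, ModSite.IsFlat X →
      Nonempty (L.obj ((S0 (A := ModSite.Mod O)).obj X) ≅
        (S0 (A := ModSite.Mod O')).obj ((scalarRMor φ).pull.obj X)) := by
  haveI := H10Coh.isGrothendieckAbelian_sheafOfModules (ModSite.ringSh O')
  let f := scalarRMor φ
  let W := HomotopyCategory.quasiIso (ModSite.Mod O') (ComplexShape.up ℤ)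
  haveI : PreservesFiniteLimits f.push := preservesFiniteLimits_of_natIso (pushScalarIso φ).symm
  haveI : PreservesFiniteColimits f.push := preservesFiniteColimits_of_natIso (pushScalarIso φ).symm
  let α := f.push.mapDerivedCategoryFactorsh
  haveI hd : f.push.mapDerivedCategory.IsRightDerivedFunctor α.inv W :=
    Functor.isRightDerivedFunctor_of_inverts _ _ α
  haveI : SiteCmp.HasRpushD f := Functor.HasRightDerivedFunctor.mk' f.push.mapDerivedCategory α.inv
  let e₁ : SiteCmp.RpushD f ≅ f.push.mapDerivedCategory :=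
    Functor.rightDerivedUnique _ _ ((SiteCmp.pushKh f).totalRightDerivedUnit DerivedCategory.Qh W) α.inv W
  let e₂ : f.push.mapDerivedCategory ≅ (Rs φ).mapDerivedCategory :=
    Localization.liftNatIso DerivedCategory.Q (HomologicalComplex.quasiIso (ModSite.Mod O') (ComplexShape.up ℤ))
      (f.push.mapHomologicalComplex _ ⋙ DerivedCategory.Q) ((Rs φ).mapHomologicalComplex _ ⋙ DerivedCategory.Q)
      f.push.mapDerivedCategory (Rs φ).mapDerivedCategory
      (Functor.isoWhiskerRight (NatIso.mapHomologicalComplex (pushScalarIso φ) _) DerivedCategory.Q)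
  obtain ⟨L, _, _, ⟨η⟩, ⟨adj⟩⟩ := exists_leftAdjoint_natural (G := f.pull) (F := f.push) f.adj
    (PullAdapted.pullAdapted f)
  refine ⟨L, adj.ofNatIsoRight (e₁ ≪≫ e₂), fun X hX => ?_⟩
  haveI := ModKFlat.countableAB4 (O := O)
  have hmem : PullAdapted.kflatFlat O ((HomologicalComplex.single (ModSite.Mod O) (ComplexShape.up ℤ) 0).obj X) := by
    have hflat : ∀ i : ℤ, KFlat.IsFlatObj (ModSite.tensorBi O)
        (((HomologicalComplex.single (ModSite.Mod O) (ComplexShape.up ℤ) 0).obj X).X i) := fun i => by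
      rw [ModKFlat.isFlatObj_iff]
      by_cases hi : i = 0
      · subst hi
        exact ModTensor.isFlat_of_iso (HomologicalComplex.singleObjXSelf (ComplexShape.up ℤ) 0 _).symm hX
      · exact (ModKFlat.isFlatObj_iff _).1
          (KFlat.isFlatObj_of_isZero (F := ModSite.tensorBi O) (HomologicalComplex.isZero_single_obj_X _ _ _ _ hi))
    exact ⟨KFlat.isKFlat_of_singleDegree _ 0 (fun i hi => HomologicalComplex.isZero_single_obj_X _ _ _ _ hi)
      (hflat 0), hflat⟩
  exact ⟨η.app ⟨_, hmem⟩ ≪≫ DerivedCategory.Q.mapIso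
    ((HomologicalComplex.singleMapHomologicalComplex f.pull (ComplexShape.up ℤ) 0).app X)⟩

variable {φ} {I : DerComp.IdealSh O} {I' : DerComp.IdealSh O'}

omit [PreservesFiniteLimits (Rs φ)] [PreservesFiniteColimits (Rs φ)] in
theorem eq_zero_of_F0 (hI : I.IsFiniteType) {F F' : ModSite.Mod O} (ψ : F ⟶ F')
    (h : ∀ (V : {V : C // ∃ l : List (O.obj.obj (op V)), Gen l I}) (x : F0 O V.1 ⟶ F), x ≫ ψ = 0) : ψ = 0 := by
  refine SheafOfModules.hom_ext (PresheafOfModules.hom_ext fun U => ModuleCat.hom_ext (LinearMap.ext fun s => ?_))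
  obtain ⟨S, hS, hgen⟩ := exists_gen_sieve hI U.unop
  refine separated_forg F' (X := U) S hS _ _ fun Z k hk => ?_
  refine (rs_app ((forg O).map ψ) k.op s).symm.trans ?_
  obtain ⟨x, hx⟩ := (bijective_eval_F0 O Z F).2 (rs ((forg O).obj F) k.op s)
  have h0 := congrArg (fun y : F0 O Z ⟶ F' =>
    (((forg O).map y).app (op Z)).hom ((((adj O).unit.app (pFree O Z)).app (op Z)).hom (gen0 O Z)))
    (h ⟨Z, hgen k hk⟩ x)
  refine Eq.trans ?_ (map_zero (((forg O).obj F').presheaf.map k.op).hom).symm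
  rw [← hx]
  exact h0

variable (hI : I.IsFiniteType) (hI' : DerComp.IsIdealExt φ I I')
  (hflat : ModSite.IsFlat ((Rs φ).obj (ModSite.unit O')))
  (hinj : ∀ (U : C) (f : O.obj.obj (op U)), (φ.hom.app (op U)).hom f ∈ I'.ideal U → f ∈ I.ideal U)
  (hsurj : ∀ (U : C) (f' : O'.obj.obj (op U)), ∃ S ∈ J U, ∀ ⦃V : C⦄ (g : V ⟶ U), S g →
    ∃ a : O.obj.obj (op V), (O'.obj.map g.op).hom f' - (φ.hom.app (op V)).hom a ∈ I'.ideal V)

include hI hI' hflat hinj hsurj in
/-- Restriction of scalars identifies the complete objects. -/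
theorem equivalence_derComp :
    (∀ K' L' : DerivedCategory (ModSite.Mod O'), DerComp.IsDerComp O' I' K' → DerComp.IsDerComp O' I' L' →
      Function.Bijective fun ψ : K' ⟶ L' => (Rs φ).mapDerivedCategory.map ψ) ∧
    (∀ E : DerivedCategory (ModSite.Mod O), DerComp.IsDerComp O I E → ∃ K' : DerivedCategory (ModSite.Mod O'),
      DerComp.IsDerComp O' I' K' ∧ Nonempty ((Rs φ).mapDerivedCategory.obj K' ≅ E)) := by
  haveI := H10Coh.isGrothendieckAbelian_sheafOfModules (ModSite.ringSh O)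
  haveI := isLeftAdjoint_Rs φ
  let adjq := Adjunction.ofIsLeftAdjoint (Rs φ)
  haveI : (Rs φ).rightAdjoint.Additive := adjq.right_adjoint_additive
  haveI := ExactRightAdj.hasPointwise (B := ModSite.Mod O) (A := ModSite.Mod O') (F := (Rs φ).rightAdjoint)
  let adjR := ExactRightAdj.adjD adjq
  let Ψ := ExactRightAdj.RF (Rs φ).rightAdjoint
  letI : Ψ.CommShift ℤ := adjR.rightAdjointCommShift ℤ
  haveI : adjR.CommShift ℤ := adjR.commShift_of_leftAdjoint ℤ
  obtain ⟨L, adjL, hL⟩ := exists_left_adjoint φ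
  have hε : ∀ Z, DerComp.IsDerComp O I Z → IsIso (adjR.counit.app Z) := fun Z hZ => by
    refine isIso_counit adjL adjR (ι := {V : C // ∃ l : List (O.obj.obj (op V)), Gen l I})
      (fun V => F0 O V.1) (fun {_ _} ψ h => eq_zero_of_F0 hI ψ h) Z fun V => ?_
    obtain ⟨V, m, hm⟩ := V
    obtain ⟨e₀⟩ := hL (F0 O V) (ModTensor.isFlat_of_iso (F0Iso O V).symm (ModOver.isFlat_freeOn O V))
    exact pre_unit_of_universal (Rs φ) adjL e₀ (c1 V φ) (bijective_c1 V φ) Z
      (pre_c1 hI' hflat hinj hsurj hm Z hZ)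
  refine ⟨fun K' L' _ hL' => ?_, fun E hE => ?_⟩
  · haveI : (Rs φ).Faithful := H17.BMod.faithful_restrictScalars _
    haveI := CoreflDer.reflectsIsomorphisms (Rs φ)
    haveI := hε _ ((isDerComp_restrictScalars φ I I' hI' L').1 hL')
    exact bijective_map_of_isIso_counit adjR K' L'
  · haveI := hε E hE
    let e : (Rs φ).mapDerivedCategory.obj (Ψ.obj E) ≅ E := asIso (adjR.counit.app E)
    refine ⟨Ψ.obj E, (isDerComp_restrictScalars φ I I' hI' _).2 ?_, ⟨e⟩⟩
    rw [isDerComp_iff] at hE ⊢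
    exact fun U g hg => (compAt_iso U g e).2 (hE U g hg)

end

end Groth.Agent.H16Derived.DerCompLib.Flat
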