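import Groth.Agent.H16Derived.DerComp.Flat.Tensor
import Mathlib.CategoryTheory.Limits.Shapes.Biproducts

/-!
# Comparing quotients by a finite list of scalars
-/

set_option autoImplicit false
set_option linter.style.haveILetI false
set_option backward.isDefEq.respectTransparency false

universe u

open CategoryTheory CategoryTheory.Limits Opposite

namespace Groth.Agent.H16Derived.DerCompLib.Flat

open H15Site H15Site.ModTensor Null

attribute [local instance] HasDerivedCategory.standard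
attribute [local instance 10000] SiteInst.hasSheafifySite SiteInst.hasWeakSheafifySite

variable {C : Type u} [SmallCategory C] {J : GrothendieckTopology C} {O : Sheaf J CommRingCat.{u}}

/-- The ring of sections. -/
abbrev Rg (O : Sheaf J CommRingCat.{u}) (X : Cᵒᵖ) : RingCat.{u} := (O.obj ⋙ forget₂ CommRingCat.{u} RingCat.{u}).obj X

/-- Sections. -/
abbrev Sc (F : ModSite.Mod O) (X : Cᵒᵖ) : Type u := ((forg O).obj F).obj X

/-- A map on sections. -/
noncomputable def ap {F G : ModSite.Mod O} (v : F ⟶ G) (X : Cᵒᵖ) : Sc F X →ₗ[Rg O X] Sc G X :=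
  (((forg O).map v).app X).hom

/-- The unit section. -/
noncomputable def one (X : Cᵒᵖ) : Sc (ModSite.unit O) X := (1 : Rg O X)

variable (N : ModSite.Mod O) (φN : ModSite.unit O ⟶ N) (gs : List (DerComp.GSec O))

/-- The image of one. -/
noncomputable def e1 (X : Cᵒᵖ) : Sc N X := (ap φN X) (one X)

/-- The multiples of the scalars. -/
noncomputable def gN (X : Cᵒᵖ) : AddSubgroup (Sc N X) :=
  AddSubgroup.closure {x | ∃ g ∈ gs, ∃ n : Sc N X, x = (show Rg O X from g.1 X.unop) • n}

variable {N φN gs}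

theorem rs_sub' (F : PMod O) {X Y : Cᵒᵖ} (k : X ⟶ Y) (a b : F.obj X) :
    rs F k (a - b) = rs F k a - rs F k b :=
  map_sub (F.presheaf.map k).hom a b

theorem rs_zero' (F : PMod O) {X Y : Cᵒᵖ} (k : X ⟶ Y) : rs F k (0 : F.obj X) = 0 :=
  map_zero (F.presheaf.map k).hom

theorem rs_e1 {X Y : Cᵒᵖ} (k : X ⟶ Y) : rs ((forg O).obj N) k (e1 N φN X) = e1 N φN Y := by
  refine (rs_app ((forg O).map φN) k (one X)).symm.trans ?_
  exact congrArg (ap φN Y) (map_one (O.obj.map k).hom)

theorem rs_gN {X Y : Cᵒᵖ} (k : X ⟶ Y) {x : Sc N X} (hx : x ∈ gN N gs X) :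
    rs ((forg O).obj N) k x ∈ gN N gs Y := by
  induction hx using AddSubgroup.closure_induction with
  | mem x hx =>
    obtain ⟨g, hg, n, rfl⟩ := hx
    refine AddSubgroup.subset_closure ⟨g, hg, rs ((forg O).obj N) k n, ?_⟩
    refine (rs_smul ((forg O).obj N) k _ n).trans (congrArg (· • _) ?_)
    exact g.2 k.unop
  | zero => rw [rs_zero']; exact zero_mem _
  | add a b _ _ ha hb => rw [rs_add]; exact add_mem ha hb
  | neg a _ ha =>
    rw [show rs ((forg O).obj N) k (-a) = -rs ((forg O).obj N) k a from map_neg _ a]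
    exact neg_mem ha

theorem smul_gN {X : Cᵒᵖ} (r : Rg O X) {x : Sc N X} (hx : x ∈ gN N gs X) : r • x ∈ gN N gs X := by
  induction hx using AddSubgroup.closure_induction with
  | mem x hx =>
    obtain ⟨g, hg, n, rfl⟩ := hx
    refine AddSubgroup.subset_closure ⟨g, hg, r • n, ?_⟩
    rw [smul_smul, smul_smul]
    exact congrArg (· • n) (mul_comm (show O.obj.obj X from r) (g.1 X.unop))
  | zero => rw [smul_zero]; exact zero_mem _
  | add a b _ _ ha hb => rw [smul_add]; exact add_mem ha hb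
  | neg a _ ha => rw [smul_neg]; exact neg_mem ha

variable (N φN gs)

/-- Locally every section is a multiple of one modulo the scalars. -/
def NSurj : Prop :=
  ∀ (V : C) (n : Sc N (op V)), ∃ S ∈ J V, ∀ ⦃Z : C⦄ (k : Z ⟶ V), S k → ∃ a : Rg O (op Z),
    rs ((forg O).obj N) k.op n - a • e1 N φN (op Z) ∈ gN N gs (op Z)

/-- A scalar killing one modulo the scalars is locally in their ideal. -/
def NInj : Prop :=
  ∀ (V : C) (a : Rg O (op V)), a • e1 N φN (op V) ∈ gN N gs (op V) → ∃ S ∈ J V, ∀ ⦃Z : C⦄ (k : Z ⟶ V), S k →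
    (O.obj.map k.op).hom a ∈ Ideal.span ((fun g : DerComp.GSec O => g.1 Z) '' {g | g ∈ gs})

variable {N φN gs}

theorem smul_one_app {F : ModSite.Mod O} (π : ModSite.unit O ⟶ F) (X : Cᵒᵖ) (a : Rg O X) :
    (ap π X) (show Sc (ModSite.unit O) X from a) = a • (ap π X) (one X) := by
  refine Eq.trans (congrArg (ap π X) ?_) ((ap π X).map_smul a (one X))
  exact (mul_one a).symm

theorem apply_gN {F : ModSite.Mod O} (π : N ⟶ F) (h : ∀ g ∈ gs, DerComp.smulEnd g N ≫ π = 0) {X : Cᵒᵖ}
    {x : Sc N X} (hx : x ∈ gN N gs X) : (ap π X) x = 0 := by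
  induction hx using AddSubgroup.closure_induction with
  | mem x hx =>
    obtain ⟨g, hg, n, rfl⟩ := hx
    exact congr((SheafOfModules.Hom.val $(h g hg)).app X |>.hom n)
  | zero => exact map_zero _
  | add a b _ _ ha hb => exact (map_add _ a b).trans (by rw [ha, hb, add_zero])
  | neg a _ ha => exact (map_neg _ a).trans (by rw [ha, neg_zero])

/-- The inverse map on quotients. -/
theorem exists_inverse (hs : NSurj N φN gs) (hi : NInj N φN gs) {Q : ModSite.Mod O} (π : ModSite.unit O ⟶ Q)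
    (hπ : ∀ g ∈ gs, DerComp.smulEnd g (ModSite.unit O) ≫ π = 0) :
    ∃ χ : N ⟶ Q, φN ≫ χ = π ∧ (∀ g ∈ gs, DerComp.smulEnd g N ≫ χ = 0) := by
  let P := (forg O).obj N
  let G := (forg O).obj Q
  let q : ∀ X, G.obj X := fun X => (ap π X) (one X)
  have rs_q : ∀ {X Y : Cᵒᵖ} (k : X ⟶ Y), rs G k (q X) = q Y := fun {X Y} k =>
    (rs_app ((forg O).map π) k (one X)).symm.trans (congrArg (ap π Y) (map_one (O.obj.map k).hom))
  have hkill : ∀ {X : Cᵒᵖ} (b : O.obj.obj X),
      b ∈ Ideal.span ((fun g : DerComp.GSec O => g.1 X.unop) '' {g | g ∈ gs}) →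
      (show Rg O X from b) • q X = 0 := by
    intro X b hb
    induction hb using Submodule.span_induction with
    | mem b hb =>
      obtain ⟨g, hg, rfl⟩ := hb
      refine Eq.trans ?_ (congr((SheafOfModules.Hom.val $(hπ g hg)).app X |>.hom (one X)))
      exact ((ap π X).map_smul _ (one X)).symm
    | zero => exact zero_smul _ _
    | add b c _ _ h h' => exact (add_smul _ _ _).trans (by rw [h, h', add_zero])
    | smul r b _ h => exact (mul_smul _ _ _).trans (by rw [h, smul_zero])
  -- independence of the chosen multiple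
  have indep : ∀ {X : Cᵒᵖ} (n : P.obj X) (a a' : Rg O X), n - a • e1 N φN X ∈ gN N gs X →
      n - a' • e1 N φN X ∈ gN N gs X → a • q X = a' • q X := by
    intro X n a a' h h'
    have h1 : (a - a') • e1 N φN X ∈ gN N gs X := by
      have := sub_mem h' h
      rw [sub_sub_sub_cancel_left] at this
      rwa [sub_smul]
    obtain ⟨S, hS, hS'⟩ := hi X.unop (a - a') h1
    refine separated_forg Q S hS _ _ fun Z k hk => ?_
    have h2 := hkill (X := op Z) _ (hS' k hk)
    refine sub_eq_zero.1 ?_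
    rw [← rs_sub', ← sub_smul, rs_smul, rs_q]
    exact h2
  -- characterisation
  let IsVal : ∀ {X : Cᵒᵖ}, P.obj X → G.obj X → Prop := fun {X} n y =>
    ∀ (Z : C) (k : Z ⟶ X.unop) (a : Rg O (op Z)), rs P k.op n - a • e1 N φN (op Z) ∈ gN N gs (op Z) →
      rs G k.op y = a • q (op Z)
  have hex : ∀ {X : Cᵒᵖ} (n : P.obj X), ∃ y, IsVal n y := by
    intro X n
    obtain ⟨S, hS, hS'⟩ := hs X.unop n
    choose a ha using hS'
    let fam : Presieve.FamilyOfElements ((ModSite.toAb Q).obj ⋙ forget _) S.arrows :=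
      fun Z k hk => (a k hk • q (op Z) : G.obj (op Z))
    have hfam : fam.Compatible := by
      intro Y₁ Y₂ Z g₁ g₂ f₁ f₂ h₁ h₂ fac
      show rs G g₁.op (a f₁ h₁ • q _) = rs G g₂.op (a f₂ h₂ • q _)
      rw [rs_smul, rs_smul, rs_q, rs_q]
      refine indep (rs P (g₁ ≫ f₁).op n) _ _ ?_ ?_
      · have := rs_gN g₁.op (ha f₁ h₁)
        rwa [rs_sub', rs_smul, rs_e1, rs_rs, ← op_comp] at this
      · have := rs_gN g₂.op (ha f₂ h₂)
        rwa [rs_sub', rs_smul, rs_e1, rs_rs, ← op_comp, ← fac] at this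
    have hsheaf : Presieve.IsSheafFor ((ModSite.toAb Q).obj ⋙ forget _) S.arrows := ((isSheaf_iff_isSheaf_of_type _ _).1
      ((sheafCompose J (forget AddCommGrpCat.{u})).obj (ModSite.toAb Q)).property) S hS
    refine ⟨hsheaf.amalgamate fam hfam, fun Z k b hb => ?_⟩
    refine separated_forg Q (S.pullback k) (J.pullback_stable k hS) _ _ fun W g hg0 => ?_
    have hg : S (g ≫ k) := hg0
    refine (rs_rs _ _ _ _).trans ((hsheaf.valid_glue hfam (g ≫ k) hg).trans ?_)
    show a (g ≫ k) hg • q (op W) = rs G g.op (b • q (op Z))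
    rw [rs_smul, rs_q]
    refine indep (rs P (g ≫ k).op n) _ _ (ha (g ≫ k) hg) ?_
    have := rs_gN g.op hb
    rwa [rs_sub', rs_smul, rs_e1, rs_rs, ← op_comp] at this
  choose χ₀ hχ using @hex
  have huniq : ∀ {X : Cᵒᵖ} (n : P.obj X) (y : G.obj X),
      (∀ (Z : C) (k : Z ⟶ X.unop) (a : Rg O (op Z)), rs P k.op n - a • e1 N φN (op Z) ∈ gN N gs (op Z) →
        rs G k.op y = a • q (op Z)) → y = χ₀ n := by
    intro X n y hy
    obtain ⟨S, hS, hS'⟩ := hs X.unop n
    refine separated_forg Q S hS _ _ fun Z k hk => ?_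
    obtain ⟨a, ha⟩ := hS' k hk
    rw [hy Z k a ha, hχ n Z k a ha]
  have hloc : ∀ {X : Cᵒᵖ} (y y' : G.obj X) (S : Sieve X.unop), S ∈ J X.unop →
      (∀ (Z : C) (k : Z ⟶ X.unop), S k → rs G k.op y = rs G k.op y') → y = y' :=
    fun y y' S hS h => separated_forg Q S hS y y' h
  let χp : P ⟶ G :=
    { app := fun X => ModuleCat.ofHom
        { toFun := fun n => χ₀ n
          map_add' := fun n n' => by
            obtain ⟨S, hS, hS'⟩ := hs X.unop n
            obtain ⟨T, hT, hT'⟩ := hs X.unop n'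
            refine hloc _ _ _ (J.intersection_covering hS hT) fun Z k hk => ?_
            obtain ⟨a, ha⟩ := hS' k hk.1
            obtain ⟨a', ha'⟩ := hT' k hk.2
            rw [rs_add, hχ n Z k a ha, hχ n' Z k a' ha', hχ (n + n') Z k (a + a') ?_, add_smul]
            rw [rs_add, add_smul, add_sub_add_comm]
            exact add_mem ha ha'
          map_smul' := fun r n => by
            obtain ⟨S, hS, hS'⟩ := hs X.unop n
            refine hloc _ _ S hS fun Z k hk => ?_
            obtain ⟨a, ha⟩ := hS' k hk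
            rw [RingHom.id_apply, rs_smul, hχ n Z k a ha, smul_smul, hχ (r • n) Z k _ ?_]
            rw [rs_smul, mul_smul, ← smul_sub]
            exact smul_gN _ ha }
      naturality := fun {X Y} f => ModuleCat.hom_ext (LinearMap.ext fun n => by
        show χ₀ (rs P f n) = rs G f (χ₀ n)
        refine (huniq _ _ fun Z k a ha => ?_).symm
        rw [rs_rs] at ha ⊢
        exact hχ n Z (k ≫ f.unop) a ha) }
  refine ⟨⟨χp⟩, ?_, fun g hg => ?_⟩
  · refine SheafOfModules.hom_ext (PresheafOfModules.hom_ext fun X => ModuleCat.hom_ext (LinearMap.ext fun x => ?_))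
    show χ₀ ((ap φN X) x) = (ap π X) x
    refine Eq.trans ?_ (smul_one_app π X x).symm
    refine (huniq _ _ fun Z k a ha => ?_).symm
    rw [rs_smul, rs_q]
    refine indep (rs P k.op ((ap φN X) x)) _ _ ?_ ha
    show rs P k.op _ - _ ∈ _
    rw [smul_one_app φN X x]
    show rs P k.op (_ • e1 N φN X) - _ ∈ _
    rw [rs_smul, rs_e1, sub_self]
    exact zero_mem _
  · refine SheafOfModules.hom_ext (PresheafOfModules.hom_ext fun X => ModuleCat.hom_ext (LinearMap.ext fun n => ?_))
    show χ₀ ((show Rg O X from g.1 X.unop) • n) = 0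
    refine (huniq _ _ fun Z k a ha => ?_).symm
    rw [rs_zero']
    refine (zero_smul _ (q (op Z))).symm.trans (indep (rs P k.op ((show Rg O X from g.1 X.unop) • n)) _ _ ?_ ha)
    rw [zero_smul, sub_zero]
    exact rs_gN k.op (AddSubgroup.subset_closure ⟨g, hg, n, rfl⟩)

/-- The quotients agree. -/
theorem quotIso (hs : NSurj N φN gs) (hi : NInj N φN gs) : QuotIso N φN gs := by
  classical
  haveI : HasFiniteBiproducts (ModSite.Mod O) := HasFiniteBiproducts.of_hasFiniteProducts
  let Φ : ∀ M : ModSite.Mod O, (⨁ fun _ : Fin gs.length => M) ⟶ M := fun M =>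
    biproduct.desc fun i => DerComp.smulEnd (gs.get i) M
  have hΦ : ∀ (M : ModSite.Mod O), ∀ g ∈ gs, DerComp.smulEnd g M ≫ cokernel.π (Φ M) = 0 := by
    intro M g hg
    obtain ⟨i, rfl⟩ := List.mem_iff_get.1 hg
    have h0 : biproduct.ι (fun _ : Fin gs.length => M) i ≫ Φ M = DerComp.smulEnd (gs.get i) M :=
      biproduct.ι_desc _ _
    rw [← h0, Category.assoc, cokernel.condition, comp_zero]
  have hdesc : ∀ {M X : ModSite.Mod O} (v : M ⟶ X), (∀ g ∈ gs, DerComp.smulEnd g M ≫ v = 0) → Φ M ≫ v = 0 :=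
    fun {M X} v hv => biproduct.hom_ext' _ _ fun i => by
      rw [comp_zero, ← Category.assoc, show biproduct.ι _ i ≫ Φ M = _ from biproduct.ι_desc _ _]
      exact hv _ (List.get_mem _ _)
  let π := cokernel.π (Φ (ModSite.unit O))
  let π' := cokernel.π (Φ N)
  obtain ⟨χ, hχ, hχ'⟩ := exists_inverse hs hi π (hΦ _)
  let ψ := cokernel.desc (Φ (ModSite.unit O)) (φN ≫ π') (hdesc _ fun g hg => by
    rw [← Category.assoc, DerComp.smulEnd_comm, Category.assoc, hΦ N g hg, comp_zero])
  let χ' := cokernel.desc (Φ N) χ (hdesc _ hχ')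
  have hψ : π ≫ ψ = φN ≫ π' := cokernel.π_desc _ _ _
  have h1 : χ ≫ ψ = π' := by
    refine SheafOfModules.hom_ext (PresheafOfModules.hom_ext fun X => ModuleCat.hom_ext (LinearMap.ext fun n => ?_))
    obtain ⟨S, hS, hS'⟩ := hs X.unop n
    refine separated_forg _ (X := X) S hS _ _ fun Z k hk => ?_
    obtain ⟨a, ha⟩ := hS' k hk
    refine (rs_app ((forg O).map (χ ≫ ψ)) k.op n).symm.trans (Eq.trans ?_ (rs_app ((forg O).map π') k.op n))
    have hd : ∀ (F : ModSite.Mod O) (v : N ⟶ F), (∀ g ∈ gs, DerComp.smulEnd g N ≫ v = 0) →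
        (ap v (op Z)) (rs ((forg O).obj N) k.op n) = a • (ap v (op Z)) (e1 N φN (op Z)) := by
      intro F v hv
      have h0 := apply_gN v hv ha
      rw [map_sub, map_smul, sub_eq_zero] at h0
      exact h0
    refine (hd _ (χ ≫ ψ) fun g hg => by rw [← Category.assoc, hχ' g hg, zero_comp]).trans
      (Eq.trans (congrArg (a • ·) ?_) (hd _ π' (hΦ N)).symm)
    show (ap (φN ≫ χ ≫ ψ) (op Z)) (one _) = (ap (φN ≫ π') (op Z)) (one _)
    rw [reassoc_of% hχ, hψ]
  refine ⟨_, _, π, π', ⟨ψ, χ', ?_, ?_⟩, hψ, fun H hH => ?_⟩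
  · rw [← cancel_epi π, reassoc_of% hψ, cokernel.π_desc, hχ, Category.comp_id]
  · rw [← cancel_epi π', ← Category.assoc, cokernel.π_desc, h1, Category.comp_id]
  · let T := (ModSite.tensorBi O).obj H
    haveI : PreservesFiniteColimits T :=
      haveI := preservesFiniteColimits_tR H
      preservesFiniteColimits_of_natIso (tLIso H).symm
    haveI : T.Additive := additive_of_preservesFiniteColimits T
    have key : ∀ M : ModSite.Mod O, IsIso (T.map (cokernel.π (Φ M))) := by
      intro M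
      have h0 : T.map (Φ M) = 0 := by
        have : Φ M = ∑ i, biproduct.π (fun _ : Fin gs.length => M) i ≫ DerComp.smulEnd (gs.get i) M :=
          biproduct.desc_eq
        rw [this, Functor.map_sum]
        refine Finset.sum_eq_zero fun i _ => ?_
        rw [Functor.map_comp, tL_smul_eq_zero (hH _ (List.get_mem _ _)) M, comp_zero]
      haveI : IsIso (cokernel.π (T.map (Φ M))) := cokernel.π_of_zero h0
      rw [show T.map (cokernel.π (Φ M)) = cokernel.π (T.map (Φ M)) ≫ (PreservesCokernel.iso T (Φ M)).inv by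
        rw [Iso.eq_comp_inv, PreservesCokernel.π_iso_hom]]
      infer_instance
    exact ⟨key _, key _⟩

end Groth.Agent.H16Derived.DerCompLib.Flat
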