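import Groth.Agent.H16Derived.DerComp.Flat.KMap
import Groth.Agent.H16Derived.DerComp.Null.Acyclic
import Mathlib.Algebra.Homology.ShortComplex.ShortExact

/-!
# Flat modules and modules killed by a list of scalars
-/

set_option autoImplicit false
set_option linter.style.haveILetI false
set_option backward.isDefEq.respectTransparency false

universe u

open CategoryTheory CategoryTheory.Limits Opposite MonoidalCategory

namespace Groth.Agent.H16Derived.DerCompLib.Flat

open H15Site H15Site.ModTensor Null

attribute [local instance] HasDerivedCategory.standard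
attribute [local instance 10000] SiteInst.hasSheafifySite SiteInst.hasWeakSheafifySite

variable {C : Type u} [SmallCategory C] {J : GrothendieckTopology C} {O : Sheaf J CommRingCat.{u}}

/-- Multiplication by a global section on a presheaf of modules. -/
noncomputable def smulP (s : DerComp.GSec O) (X : ModSite.Mod O) : (forg O).obj X ⟶ (forg O).obj X :=
  (forg O).map (DerComp.smulEnd s X)

theorem hom_ext_adj {P : PMod O} {Y : ModSite.Mod O} {a b : (aSh O).obj P ⟶ Y}
    (h : (adj O).unit.app P ≫ (forg O).map a = (adj O).unit.app P ≫ (forg O).map b) : a = b :=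
  ((adj O).homEquiv P Y).injective (by rw [Adjunction.homEquiv_unit, Adjunction.homEquiv_unit]; exact h)

/-- Sheafified scalars are scalars. -/
theorem aSh_smul (s : DerComp.GSec O) {P : PMod O} (σ : P ⟶ P)
    (hσ : ∀ (Z : Cᵒᵖ) (x : P.obj Z), (σ.app Z).hom x =
      (show (O.obj ⋙ forget₂ CommRingCat.{u} RingCat.{u}).obj Z from s.1 Z.unop) • x) :
    (aSh O).map σ = DerComp.smulEnd s ((aSh O).obj P) := by
  refine hom_ext_adj ?_
  refine ((adj O).unit.naturality σ).symm.trans ?_
  refine PresheafOfModules.hom_ext fun Z => ModuleCat.hom_ext (LinearMap.ext fun x => ?_)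
  show (((adj O).unit.app P).app Z).hom ((σ.app Z).hom x) = _
  rw [hσ]
  exact (((adj O).unit.app P).app Z).hom.map_smul _ x

theorem tR_smul (s : DerComp.GSec O) (N X : ModSite.Mod O) :
    (tR N).map (DerComp.smulEnd s X) = DerComp.smulEnd s ((tR N).obj X) := by
  refine aSh_smul s (smulP s X ▷ (forg O).obj N) fun Z x => ?_
  induction x using TensorProduct.induction_on with
  | zero => exact (map_zero _).trans (smul_zero _).symm
  | tmul a b => rfl
  | add a b ha hb => exact (map_add _ a b).trans ((congrArg₂ (· + ·) ha hb).trans (smul_add _ a b).symm)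

theorem tL_smul (s : DerComp.GSec O) (H X : ModSite.Mod O) :
    ((ModSite.tensorBi O).obj H).map (DerComp.smulEnd s X) =
      DerComp.smulEnd s (((ModSite.tensorBi O).obj H).obj X) := by
  refine aSh_smul s ((forg O).obj H ◁ smulP s X) fun Z x => ?_
  induction x using TensorProduct.induction_on with
  | zero => exact (map_zero _).trans (smul_zero _).symm
  | tmul a b =>
    exact TensorProduct.tmul_smul (R := O.obj.obj Z) (R' := O.obj.obj Z) (M := ((forg O).obj H).obj Z)
      (N := ((forg O).obj X).obj Z) (s.1 Z.unop : O.obj.obj Z) a b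
  | add a b ha hb => exact (map_add _ a b).trans ((congrArg₂ (· + ·) ha hb).trans (smul_add _ a b).symm)

theorem tL_smul_eq_zero {s : DerComp.GSec O} {H : ModSite.Mod O} (h : s • 𝟙 H = 0) (X : ModSite.Mod O) :
    ((ModSite.tensorBi O).obj H).map (DerComp.smulEnd s X) = 0 := by
  rw [DerComp.smul_def, Category.comp_id] at h
  haveI := additive_tR X
  have h1 : (tR X).map (DerComp.smulEnd s H) = 0 := by rw [h, Functor.map_zero]
  rw [tL_smul, ← h1, tR_smul]
  rfl

variable (N : ModSite.Mod O) (φN : ModSite.unit O ⟶ N)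

/-- The natural map `X ⟶ X ⊗ N`. -/
noncomputable def ι : 𝟭 (ModSite.Mod O) ⟶ tR N :=
  ((tLIso (ModSite.unit O)).symm ≪≫ ModOver.tensorUnitIso O).inv ≫ (ModSite.tensorBi O).flip.map φN

/-- Comparing cokernels of multiplications. -/
def QuotIso (gs : List (DerComp.GSec O)) : Prop :=
  ∃ (Q Q' : ModSite.Mod O) (π : ModSite.unit O ⟶ Q) (π' : N ⟶ Q') (ψ : Q ≅ Q'), π ≫ ψ.hom = φN ≫ π' ∧
    ∀ H : ModSite.Mod O, (∀ g ∈ gs, g • 𝟙 H = 0) →
      IsIso (((ModSite.tensorBi O).obj H).map π) ∧ IsIso (((ModSite.tensorBi O).obj H).map π')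

variable {N φN}

theorem isIso_ι_of_killed {gs : List (DerComp.GSec O)} (hQ : QuotIso N φN gs) (H : ModSite.Mod O)
    (hH : ∀ g ∈ gs, g • 𝟙 H = 0) : IsIso ((ι N φN).app H) := by
  obtain ⟨Q, Q', π, π', ψ, hsq, hiso⟩ := hQ
  obtain ⟨h1, h2⟩ := hiso H hH
  let T := (ModSite.tensorBi O).obj H
  haveI : IsIso (T.map π) := h1
  haveI : IsIso (T.map π') := h2
  have h : IsIso (T.map φN) := by
    haveI : IsIso (T.map φN ≫ T.map π') := by rw [← Functor.map_comp, ← hsq, Functor.map_comp]; infer_instance
    exact IsIso.of_isIso_comp_right (T.map φN) (T.map π')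
  haveI : IsIso (((ModSite.tensorBi O).flip.map φN).app H) := h
  show IsIso ((((tLIso (ModSite.unit O)).symm ≪≫ ModOver.tensorUnitIso O).inv ≫ _).app H)
  rw [NatTrans.comp_app]
  infer_instance

/-- Modules on which the scalars act nilpotently. -/
theorem isIso_ι_of_nilpotent (hN : ModSite.IsFlat N) {gs : List (DerComp.GSec O)} (hQ : QuotIso N φN gs) :
    ∀ (m : List (DerComp.GSec O)) (H : ModSite.Mod O), (∀ g ∈ gs, g ∈ m ∨ g • 𝟙 H = 0) →
      (∀ g ∈ m, ∃ k : ℕ, g ^ k • 𝟙 H = 0) → IsIso ((ι N φN).app H)
  | [], H, h, _ => isIso_ι_of_killed hQ H fun g hg => (h g hg).resolve_left List.not_mem_nil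
  | g :: m, H, h, h' => by
    haveI := additive_tR N
    haveI : PreservesFiniteLimits (tR N) := hN.1
    haveI : PreservesFiniteColimits (tR N) := hN.2
    obtain ⟨k, hk⟩ := h' g List.mem_cons_self
    induction k generalizing H with
    | zero =>
      rw [pow_zero, one_smul] at hk
      have hz : IsZero H := (IsZero.iff_id_eq_zero H).2 hk
      exact
        ⟨⟨0, hz.eq_of_src _ _, ((tR N).map_isZero hz).eq_of_src _ _⟩⟩
    | succ k ih =>
      let μ : H ⟶ H := g • 𝟙 H
      let S₁ := kernel μ
      let S₃ := Abelian.coimage μ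
      let S : ShortComplex (ModSite.Mod O) :=
        ShortComplex.mk (kernel.ι μ) (Abelian.coimage.π μ) (cokernel.condition _)
      have hS : S.ShortExact := { exact := ShortComplex.exact_cokernel _ }
      haveI : Mono (Abelian.factorThruCoimage μ) := inferInstance
      have hsub : ∀ {X : ModSite.Mod O} (i : X ⟶ H) [Mono i] (c : DerComp.GSec O),
          c • 𝟙 H = 0 → c • 𝟙 X = 0 := fun i _ c hc => by
        rw [← cancel_mono i, Linear.smul_comp, Category.id_comp, ← Category.comp_id i, ← Linear.comp_smul, hc,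
          comp_zero, zero_comp]
      have hquot : ∀ {X : ModSite.Mod O} (p : H ⟶ X) [Epi p] (c : DerComp.GSec O),
          c • 𝟙 H = 0 → c • 𝟙 X = 0 := fun p _ c hc => by
        rw [← cancel_epi p, Linear.comp_smul, Category.comp_id, ← Category.id_comp p, ← Linear.smul_comp, hc,
          zero_comp, comp_zero]
      have h1 : IsIso ((ι N φN).app S₁) := by
        refine isIso_ι_of_nilpotent hN hQ m S₁ (fun a ha => ?_) fun a ha => ?_
        · rcases h a ha with ha' | ha'
          · rcases List.mem_cons.1 ha' with rfl | ha''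
            · right
              rw [← cancel_mono (kernel.ι μ), Linear.smul_comp, Category.id_comp, zero_comp]
              have := kernel.condition μ
              rwa [show kernel.ι μ ≫ μ = a • kernel.ι μ by rw [Linear.comp_smul, Category.comp_id]] at this
            · exact Or.inl ha''
          · exact Or.inr (hsub (kernel.ι μ) a ha')
        · obtain ⟨j, hj⟩ := h' a (List.mem_cons_of_mem _ ha)
          exact ⟨j, hsub (kernel.ι μ) _ hj⟩
      have h3 : IsIso ((ι N φN).app S₃) := by
        have hk' : g ^ k • 𝟙 S₃ = 0 := by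
          rw [← cancel_epi (Abelian.coimage.π μ), ← cancel_mono (Abelian.factorThruCoimage μ),
            comp_zero, zero_comp, Linear.comp_smul, Category.comp_id, Linear.smul_comp, Abelian.coimage.fac]
          show g ^ k • (g • 𝟙 H) = 0
          rw [smul_smul, ← pow_succ, hk]
        refine ih S₃ (fun a ha => ?_) (fun a ha => ?_) hk'
        · exact (h a ha).imp id (hquot (Abelian.coimage.π μ) a)
        · obtain ⟨j, hj⟩ := h' a ha
          exact ⟨j, hquot (Abelian.coimage.π μ) _ hj⟩
      let f : S ⟶ S.map (tR N) :=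
        { τ₁ := (ι N φN).app _, τ₂ := (ι N φN).app _, τ₃ := (ι N φN).app _
          comm₁₂ := ((ι N φN).naturality _).symm
          comm₂₃ := ((ι N φN).naturality _).symm }
      haveI : IsIso f.τ₁ := h1
      haveI : IsIso f.τ₃ := h3
      exact ShortComplex.isIso₂_of_shortExact_of_isIso₁₃ f hS (hS.map_of_exact (tR N))

theorem homologyMap_natCx {A : Type*} [Category A] [Abelian A] (G : A ⥤ A) [G.Additive]
    [PreservesFiniteLimits G] [PreservesFiniteColimits G] (τ : 𝟭 A ⟶ G) (K : CochainComplex A ℤ) (n : ℤ)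
    (h : IsIso (τ.app (K.homology n))) : IsIso (HomologicalComplex.homologyMap (natCx G τ K) n) := by
  let f : K.sc n ⟶ (K.sc n).map G := (K.sc n).mapNatTrans τ
  have he : HomologicalComplex.homologyMap (natCx G τ K) n = ShortComplex.homologyMap f := rfl
  rw [he]
  haveI : IsIso (τ.app (K.sc n).homology) := h
  exact (ShortComplex.homologyMap_mapNatTrans (K.sc n) τ) ▸ inferInstance

/-- The Koszul criterion for the unit. -/
theorem pre_single (hN : ModSite.IsFlat N) (gs : List (DerComp.GSec O)) (hQ : QuotIso N φN gs)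
    (B : DerivedCategory (ModSite.Mod O))
    (hB : ∀ g ∈ gs, ∀ (Z : DerivedCategory (ModSite.Mod O)) (n : ℤ), Comp (Preadditive.leftComp (B⟦n⟧) (g • 𝟙 Z))) :
    Pre (DerivedCategory.Q.map ((HomologicalComplex.single (ModSite.Mod O) (ComplexShape.up ℤ) 0).map
      ((ι N φN).app (ModSite.unit O)))) B := by
  haveI := additive_tR N
  haveI : PreservesFiniteLimits (tR N) := hN.1
  haveI : PreservesFiniteColimits (tR N) := hN.2
  let R := DerComp.GSec O
  let u : CochainComplex (ModSite.Mod O) ℤ :=
    (HomologicalComplex.single (ModSite.Mod O) (ComplexShape.up ℤ) 0).obj (ModSite.unit O)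
  let Gu := ((tR N).mapHomologicalComplex (ComplexShape.up ℤ)).obj u
  have hmap : (scal R u).map (tR N) = scal R Gu := by
    have hact : ((scal R u).map (tR N)).act = fun g => g • 𝟙 Gu := funext fun g => by
      refine HomologicalComplex.hom_ext _ _ fun i => ?_
      show (tR N).map (g • 𝟙 (u.X i)) = g • 𝟙 ((tR N).obj (u.X i))
      rw [DerComp.smul_def, Category.comp_id, DerComp.smul_def, Category.comp_id, tR_smul]
    show (⟨((scal R u).map (tR N)).X, ((scal R u).map (tR N)).act, _⟩ : KAct R _) = scal R _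
    simp only [hact]
    rfl
  let Φ : KHom (scal R u) (scal R Gu) :=
    ⟨natCx (tR N) (ι N φN) u, fun g => by
      show (g • 𝟙 u) ≫ _ = _ ≫ (g • 𝟙 Gu)
      rw [Linear.smul_comp, Linear.comp_smul, Category.id_comp, Category.comp_id]⟩
  have hpre : Pre (DerivedCategory.Q.map Φ.f) B := by
    refine pre_of_kos Φ gs B hB ?_
    have hq : QuasiIso ((natHom (tR N) (ι N φN) (scal R u)).kos gs).f := by
      obtain ⟨e, -, he⟩ := exists_natHom_kos (tR N) (ι N φN) (scal R u) gs
      rw [← he]
      haveI : QuasiIso (natCx (tR N) (ι N φN) (Null.kos gs (scal R u)).X) := ⟨fun n => by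
        rw [quasiIsoAt_iff_isIso_homologyMap]
        refine homologyMap_natCx _ _ _ _ (isIso_ι_of_nilpotent hN hQ gs _ (fun g hg => Or.inl hg) fun g hg => ?_)
        obtain ⟨k, hk⟩ := exists_pow_smul_eq_zero gs u hg
        exact ⟨k, pow_smul_homology _ hk n⟩⟩
      infer_instance
    have key : ∀ (b : KAct R (ModSite.Mod O)) (hb : (scal R u).map (tR N) = b) (ψ : KHom (scal R u) b),
        HEq ψ.f (natHom (tR N) (ι N φN) (scal R u)).f → QuasiIso (ψ.kos gs).f := by
      rintro b rfl ψ hψ
      obtain rfl : ψ = natHom (tR N) (ι N φN) (scal R u) := KHom.ext' (eq_of_heq hψ)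
      exact hq
    haveI := key _ hmap Φ HEq.rfl
    haveI : IsIso (DerivedCategory.Q.map (Φ.kos gs).f) :=
      Localization.inverts DerivedCategory.Q (HomologicalComplex.quasiIso _ _) _ ‹_›
    exact pre_of_isIso _ _
  let σ := (HomologicalComplex.singleMapHomologicalComplex (tR N) (ComplexShape.up ℤ) 0).app (ModSite.unit O)
  have hs : natCx (tR N) (ι N φN) u ≫ σ.hom =
      (HomologicalComplex.single (ModSite.Mod O) (ComplexShape.up ℤ) 0).map ((ι N φN).app (ModSite.unit O)) := by
    refine HomologicalComplex.from_single_hom_ext ?_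
    simp [natCx, σ, u, HomologicalComplex.single_map_f_self, HomologicalComplex.singleMapHomologicalComplex_hom_app_self]
    exact ((ι N φN).naturality (HomologicalComplex.singleObjXSelf (ComplexShape.up ℤ) 0 (ModSite.unit O)).hom).symm
  rw [← hs, Functor.map_comp]
  exact pre_comp _ _ hpre (pre_of_isIso _ _)

end Groth.Agent.H16Derived.DerCompLib.Flat
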